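import Groth.Agent.Lib.Helper9.Hens.LocalFlat
import Groth.Agent.Lib.Helper9.HensK.StrictUnique
import Mathlib.RingTheory.Unramified.LocalStructure
import Mathlib.RingTheory.Ideal.GoingDown
import Mathlib.RingTheory.KrullDimension.Basic

/-!
# Krull dimension of (strict) henselizations

An algebra all of whose elements come from étale algebras has incomparable fibres, hence its dimension
is at most that of the base.  With faithful flatness (going down) one gets equality.
-/

namespace Groth.Agent.Lib.Helper9

universe u

/-- Every element of `S` lies in the image of an étale `R`-algebra. -/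
def IsEtaleCovered (R S : Type u) [CommRing R] [CommRing S] [Algebra R S] : Prop :=
  ∀ x : S, ∃ (E : Type u) (_ : CommRing E) (_ : Algebra R E) (_ : Algebra.Etale R E)
    (φ : E →ₐ[R] S), x ∈ φ.range

section

variable {R S : Type u} [CommRing R] [CommRing S] [Algebra R S]

theorem IsEtaleCovered.of_algEquiv {S' : Type u} [CommRing S'] [Algebra R S'] (e : S' ≃ₐ[R] S)
    (h : IsEtaleCovered R S') : IsEtaleCovered R S := by
  intro x
  obtain ⟨E, _, _, _, φ, y, hy⟩ := h (e.symm x)
  refine ⟨E, inferInstance, inferInstance, inferInstance, (e : S' →ₐ[R] S).comp φ, y, ?_⟩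
  change e (φ y) = x
  have hy' : φ y = e.symm x := hy
  rw [hy', e.apply_symm_apply]

theorem IsEtaleCovered.under_lt_under (hS : IsEtaleCovered R S) {P Q : Ideal S} [P.IsPrime]
    [Q.IsPrime] (h : P < Q) : P.under R < Q.under R := by
  refine lt_of_le_of_ne (Ideal.comap_mono h.le) ?_
  intro heq
  obtain ⟨x, hxQ, hxP⟩ := SetLike.exists_of_lt h
  obtain ⟨E, _, _, _, φ, e, rfl⟩ := hS x
  have hP' : (P.comap φ).IsPrime := Ideal.comap_isPrime _ _
  have hQ' : (Q.comap φ).IsPrime := Ideal.comap_isPrime _ _
  have hle : P.comap φ ≤ Q.comap φ := Ideal.comap_mono h.le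
  have h1 : ∀ J : Ideal S, (J.comap φ).under R = J.under R := by
    intro J
    change (J.comap (φ : E →+* S)).comap (algebraMap R E) = J.comap (algebraMap R S)
    rw [Ideal.comap_comap, AlgHom.comp_algebraMap]
  have h2 : (P.comap φ).under R = (Q.comap φ).under R := by rw [h1, h1]; exact heq
  have h3 : P.comap φ = Q.comap φ := Algebra.QuasiFinite.eq_of_le_of_under_eq _ _ hle h2
  apply hxP
  have : e ∈ Q.comap φ := hxQ
  rw [← h3] at this
  exact this

theorem IsEtaleCovered.ringKrullDim_le (hS : IsEtaleCovered R S) :
    ringKrullDim S ≤ ringKrullDim R := by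
  apply Order.krullDim_le_of_strictMono (PrimeSpectrum.comap (algebraMap R S))
  intro P Q hPQ
  rw [← PrimeSpectrum.asIdeal_lt_asIdeal] at hPQ ⊢
  exact hS.under_lt_under hPQ

theorem ringKrullDim_le_of_faithfullyFlat [Module.FaithfullyFlat R S] :
    ringKrullDim R ≤ ringKrullDim S := by
  unfold ringKrullDim Order.krullDim
  apply iSup_le
  intro l
  obtain ⟨P, hP⟩ := PrimeSpectrum.comap_surjective_of_faithfullyFlat (B := S) l.last
  haveI : P.asIdeal.LiesOver l.last.asIdeal := ⟨by rw [← hP]; rfl⟩
  obtain ⟨L, hlen, -, -⟩ := Ideal.exists_ltSeries_of_hasGoingDown l P.asIdeal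
  rw [← hlen]
  exact le_iSup (fun p : LTSeries (PrimeSpectrum S) => (p.length : WithBot ℕ∞)) L

end

theorem Hens.PairHens.isEtaleCovered {A : Type u} [CommRing A] {I : Ideal A} :
    IsEtaleCovered A (Hens.PairHens A I) := by
  intro x
  obtain ⟨N, y, rfl⟩ := Hens.PairHens.exists_rep x
  exact ⟨N.S, inferInstance, inferInstance, inferInstance, Hens.PairHens.ιₐ N, y, rfl⟩

theorem HensK.PtColim.isEtaleCovered {A : Type u} [CommRing A] {K : Type u} [CommRing K]
    [Algebra A K] : IsEtaleCovered A (HensK.PtColim A K) := by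
  intro x
  obtain ⟨N, y, rfl⟩ := HensK.PtColim.exists_rep x
  exact ⟨N.S, inferInstance, inferInstance, inferInstance, HensK.PtColim.ιₐ N, y, rfl⟩

section

variable (R S : Type u) [CommRing R] [IsLocalRing R] [CommRing S] [IsLocalRing S]
    [Algebra R S] [IsLocalHom (algebraMap R S)]

theorem isEtaleCovered_of_isHenselization [Hensel.IsHenselization R S] : IsEtaleCovered R S :=
  Hens.PairHens.isEtaleCovered.of_algEquiv (Hens.algEquivHenselization R S).symm

theorem isEtaleCovered_of_isStrictHenselization [Hensel.IsStrictHenselization R S] :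
    IsEtaleCovered R S :=
  HensK.PtColim.isEtaleCovered.of_algEquiv (HensK.algEquivStrictHenselization R S).symm

theorem ringKrullDim_eq_of_isHenselization [Hensel.IsHenselization R S] :
    ringKrullDim S = ringKrullDim R := by
  haveI := Hens.faithfullyFlat_of_isHenselization R S
  exact le_antisymm (isEtaleCovered_of_isHenselization R S).ringKrullDim_le
    ringKrullDim_le_of_faithfullyFlat

theorem ringKrullDim_eq_of_isStrictHenselization [Hensel.IsStrictHenselization R S] :
    ringKrullDim S = ringKrullDim R := by
  haveI := HensK.faithfullyFlat_of_isStrictHenselization R S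
  exact le_antisymm (isEtaleCovered_of_isStrictHenselization R S).ringKrullDim_le
    ringKrullDim_le_of_faithfullyFlat

end

end Groth.Agent.Lib.Helper9
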