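import Groth.Agent.Lib.Helper9.Hens.Henselian
import Mathlib.RingTheory.Flat.EquationalCriterion
import Mathlib.RingTheory.Smooth.Flat

/-!
# The henselization of a pair is flat
-/

namespace Groth.Agent.Lib.Helper9.Hens

open CategoryTheory TensorProduct Polynomial

universe u

variable {A : Type u} [CommRing A] {I : Ideal A}

namespace PairHens

theorem exists_common_fun {κ : Type*} [Finite κ] (x : κ → PairHens A I) :
    ∃ (N : EtNbhd A I) (y : κ → N.S), ∀ i, ι N (y i) = x i := by
  classical
  haveI := Fintype.ofFinite κ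
  obtain ⟨N, hN⟩ := exists_common (Finset.univ.image x)
  have h : ∀ i, ∃ y : N.S, ι N y = x i := fun i =>
    hN (x i) (Finset.mem_image_of_mem x (Finset.mem_univ i))
  exact ⟨N, fun i => (h i).choose, fun i => (h i).choose_spec⟩

instance flat : Module.Flat A (PairHens A I) := by
  apply Module.Flat.of_forall_isTrivialRelation
  intro l f x hfx
  obtain ⟨N, y, hy⟩ := exists_common_fun x
  have h1 : ι N (∑ i, f i • y i) = ι N 0 := by
    rw [map_zero, map_sum, ← hfx]
    apply Finset.sum_congr rfl
    intro i _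
    rw [Algebra.smul_def, map_mul, ι_algebraMap, hy, Algebra.smul_def]
  obtain ⟨N', g, hg⟩ := (ι_eq_iff _ _).mp h1
  rw [map_zero, map_sum] at hg
  have h2 : ∑ i, f i • g.1 (y i) = 0 := by
    rw [← hg]
    apply Finset.sum_congr rfl
    intro i _
    rw [map_smul]
  obtain ⟨k, a, z, hz1, hz2⟩ := Module.Flat.isTrivialRelation_of_sum_smul_eq_zero h2
  refine ⟨k, a, fun j => ι N' (z j), ?_, hz2⟩
  intro i
  have hz1' : g.1 (y i) = ∑ j, a i j • z j := hz1 i
  rw [← hy i, ← ι_comp g, hz1', map_sum]
  apply Finset.sum_congr rfl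
  intro j _
  rw [Algebra.smul_def, map_mul, ι_algebraMap, Algebra.smul_def]

end PairHens

end Groth.Agent.Lib.Helper9.Hens
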