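import Groth.Agent.Lib.Helper9.Hens.Universal
import Groth.Agent.Lib.Helper9.Hens.Flat
import Groth.Agent.Lib.Helper9.TorsionTensor
import Groth.Agent.Lib.Helper3.EtaleLiftRel
import Groth.Prelude.Def_Hens2

/-!
# `PairHens A I` is a henselization of the pair `(A, I)` (universal property towards all henselian
pairs), uniqueness of pair henselizations, and first consequences.
-/

namespace Groth.Agent.Lib.Helper9.Hens

universe u

section

variable (A : Type u) [CommRing A] (I : Ideal A)

/-- The universal property of `PairHens A I` towards an arbitrary henselian pair `(C, J)`. -/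
theorem PairHens.existsUnique_ringHom (C : Type u) [CommRing C] (J : Ideal C) (f : A →+* C)
    (hC : HenselianRing C J) (hIJ : I.map f ≤ J) :
    ∃! g : PairHens A I →+* C, g.comp (algebraMap A (PairHens A I)) = f := by
  letI : Algebra A C := f.toAlgebra
  have hIJ' : I.map (algebraMap A C) ≤ J := hIJ
  obtain ⟨g, -, hg⟩ := PairHens.existsUnique_algHom (I := I) J hIJ'
    (fun N τ => Groth.Agent.Lib.Helper3.existsUnique_algHom_lift_of_etale N.S C J τ)
  refine ⟨g.toRingHom, RingHom.ext fun a => g.commutes a, ?_⟩
  intro g' hg'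
  let g'' : PairHens A I →ₐ[A] C := { g' with commutes' := fun a => DFunLike.congr_fun hg' a }
  have h1 : g'' = g := hg g'' trivial
  rw [← h1]

/-- `PairHens A I` is a henselization of the pair `(A, I)`. -/
theorem PairHens.isPairHenselization : Hens2.IsPairHenselization A I (PairHens A I) :=
  ⟨inferInstance, fun C _ J f hC hIJ => PairHens.existsUnique_ringHom A I C J f hC hIJ⟩

end

section Unique

variable {A : Type u} [CommRing A] {I : Ideal A}
  {B₁ : Type u} [CommRing B₁] [Algebra A B₁] {B₂ : Type u} [CommRing B₂] [Algebra A B₂]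

/-- Two henselizations of the same pair are isomorphic. -/
theorem nonempty_algEquiv_of_isPairHenselization (h₁ : Hens2.IsPairHenselization A I B₁)
    (h₂ : Hens2.IsPairHenselization A I B₂) : Nonempty (B₁ ≃ₐ[A] B₂) := by
  obtain ⟨g, hg, -⟩ := h₁.2 B₂ (I.map (algebraMap A B₂)) (algebraMap A B₂) h₂.1 le_rfl
  obtain ⟨g', hg', -⟩ := h₂.2 B₁ (I.map (algebraMap A B₁)) (algebraMap A B₁) h₁.1 le_rfl
  obtain ⟨i₁, -, hi₁⟩ := h₁.2 B₁ (I.map (algebraMap A B₁)) (algebraMap A B₁) h₁.1 le_rfl
  obtain ⟨i₂, -, hi₂⟩ := h₂.2 B₂ (I.map (algebraMap A B₂)) (algebraMap A B₂) h₂.1 le_rfl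
  have e1 : g'.comp g = RingHom.id B₁ := by
    have a1 : g'.comp g = i₁ := hi₁ _ (by
      show (g'.comp g).comp (algebraMap A B₁) = algebraMap A B₁
      rw [RingHom.comp_assoc, hg, hg'])
    have a2 : RingHom.id B₁ = i₁ := hi₁ _ (RingHom.id_comp _)
    rw [a1, a2]
  have e2 : g.comp g' = RingHom.id B₂ := by
    have a1 : g.comp g' = i₂ := hi₂ _ (by
      show (g.comp g').comp (algebraMap A B₂) = algebraMap A B₂
      rw [RingHom.comp_assoc, hg', hg])
    have a2 : RingHom.id B₂ = i₂ := hi₂ _ (RingHom.id_comp _)
    rw [a1, a2]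
  exact ⟨{ toFun := g
           invFun := g'
           left_inv := fun x => DFunLike.congr_fun e1 x
           right_inv := fun x => DFunLike.congr_fun e2 x
           map_mul' := map_mul g
           map_add' := map_add g
           commutes' := fun r => DFunLike.congr_fun hg r }⟩

/-- Any henselization of the pair `(A, I)` is isomorphic to the model. -/
noncomputable def algEquivPairHens {B : Type u} [CommRing B] [Algebra A B]
    (h : Hens2.IsPairHenselization A I B) : B ≃ₐ[A] PairHens A I :=
  (nonempty_algEquiv_of_isPairHenselization h (PairHens.isPairHenselization A I)).some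

/-- Being a henselization of a pair is invariant under isomorphism of algebras. -/
theorem isPairHenselization_of_algEquiv (e : B₁ ≃ₐ[A] B₂)
    (h₁ : Hens2.IsPairHenselization A I B₁) : Hens2.IsPairHenselization A I B₂ := by
  have hmap : I.map (algebraMap A B₂) = (I.map (algebraMap A B₁)).map (e : B₁ →+* B₂) := by
    rw [Ideal.map_map]
    congr 1
    ext a
    exact (e.commutes a).symm
  refine ⟨?_, ?_⟩
  · have hH := h₁.1
    refine ⟨?_, ?_⟩
    · intro x hx
      rw [hmap] at hx
      have h1 : e.symm x ∈ I.map (algebraMap A B₁) := by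
        have := Ideal.mem_map_of_mem (e.symm : B₂ →+* B₁) hx
        rw [Ideal.map_map] at this
        have h2 : ((e.symm : B₂ →+* B₁).comp (e : B₁ →+* B₂)) = RingHom.id B₁ := by
          ext y
          exact e.symm_apply_apply y
        rw [h2, Ideal.map_id] at this
        exact this
      have h3 := hH.jac h1
      rw [Ideal.mem_jacobson_bot] at h3 ⊢
      intro y
      have h4 := (h3 (e.symm y)).map e
      simpa using h4
    · intro f hf a₀ h₁' h₂'
      have hf' : (f.map (e.symm : B₂ →+* B₁)).Monic := hf.map _
      have key : ∀ z : B₂, z ∈ I.map (algebraMap A B₂) → e.symm z ∈ I.map (algebraMap A B₁) := by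
        intro z hz
        rw [hmap] at hz
        have := Ideal.mem_map_of_mem (e.symm : B₂ →+* B₁) hz
        rw [Ideal.map_map] at this
        have h2 : ((e.symm : B₂ →+* B₁).comp (e : B₁ →+* B₂)) = RingHom.id B₁ := by
          ext y
          exact e.symm_apply_apply y
        rw [h2, Ideal.map_id] at this
        exact this
      have key' : ∀ z : B₁, z ∈ I.map (algebraMap A B₁) → e z ∈ I.map (algebraMap A B₂) := by
        intro z hz
        rw [hmap]
        exact Ideal.mem_map_of_mem (e : B₁ →+* B₂) hz
      have he1 : (f.map (e.symm : B₂ →+* B₁)).eval (e.symm a₀) = e.symm (f.eval a₀) :=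
        Polynomial.eval_map_apply (e.symm : B₂ →+* B₁) a₀
      have hd1 : (f.map (e.symm : B₂ →+* B₁)).derivative.eval (e.symm a₀) =
          e.symm (f.derivative.eval a₀) := by
        rw [Polynomial.derivative_map]
        exact Polynomial.eval_map_apply (e.symm : B₂ →+* B₁) a₀
      have hunit : IsUnit (Ideal.Quotient.mk (I.map (algebraMap A B₁))
          ((f.map (e.symm : B₂ →+* B₁)).derivative.eval (e.symm a₀))) := by
        rw [hd1]
        obtain ⟨v, hv⟩ := h₂'.exists_right_inv
        obtain ⟨w, rfl⟩ := Ideal.Quotient.mk_surjective v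
        rw [← map_mul, ← map_one (Ideal.Quotient.mk _), Ideal.Quotient.eq] at hv
        have h5 := key _ hv
        rw [map_sub, map_mul, map_one] at h5
        apply IsUnit.of_mul_eq_one (Ideal.Quotient.mk _ (e.symm w))
        rw [← map_mul, ← map_one (Ideal.Quotient.mk _), Ideal.Quotient.eq]
        exact h5
      obtain ⟨a, ha1, ha2⟩ := hH.is_henselian (f.map (e.symm : B₂ →+* B₁)) hf' (e.symm a₀)
        (by rw [he1]; exact key _ h₁') hunit
      refine ⟨e a, ?_, ?_⟩
      · have h6 : (f.map (e.symm : B₂ →+* B₁)).eval a = 0 := ha1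
        have h7 : ((f.map (e.symm : B₂ →+* B₁)).map (e : B₁ →+* B₂)).eval
            ((e : B₁ →+* B₂) a) = 0 := by
          rw [Polynomial.eval_map_apply, h6, map_zero]
        have h9 : ((e : B₁ →+* B₂).comp (e.symm : B₂ →+* B₁)) = RingHom.id B₂ := by
          ext y
          exact e.apply_symm_apply y
        rw [Polynomial.map_map, h9, Polynomial.map_id] at h7
        exact h7
      · have := key' _ ha2
        rwa [map_sub, e.apply_symm_apply] at this
  · intro C _ J f hC hIJ
    obtain ⟨g, hg, hguniq⟩ := h₁.2 C J f hC hIJ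
    refine ⟨g.comp (e.symm : B₂ →+* B₁), ?_, ?_⟩
    · ext a
      simp only [RingHom.comp_apply]
      have : (e.symm : B₂ →+* B₁) (algebraMap A B₂ a) = algebraMap A B₁ a := e.symm.commutes a
      rw [this]
      exact DFunLike.congr_fun hg a
    · intro g' hg'
      have h1 : g'.comp (e : B₁ →+* B₂) = g := by
        apply hguniq
        ext a
        simp only [RingHom.comp_apply]
        have : (e : B₁ →+* B₂) (algebraMap A B₁ a) = algebraMap A B₂ a := e.commutes a
        rw [this]
        exact DFunLike.congr_fun hg' a
      rw [← h1]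
      ext y
      simp

end Unique

section Consequences

variable {A : Type u} [CommRing A] {I : Ideal A} {B : Type u} [CommRing B] [Algebra A B]

theorem flat_of_isPairHenselization (h : Hens2.IsPairHenselization A I B) : Module.Flat A B :=
  Module.Flat.of_linearEquiv (algEquivPairHens h).toLinearEquiv

theorem exists_sub_mem_map_of_isPairHenselization (h : Hens2.IsPairHenselization A I B) (b : B) :
    ∃ a : A, b - algebraMap A B a ∈ I.map (algebraMap A B) := by
  let e := algEquivPairHens h
  obtain ⟨a, ha⟩ := Ideal.Quotient.mk_surjective (PairHens.residue (e b))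
  refine ⟨a, ?_⟩
  have h1 : e b - algebraMap A (PairHens A I) a ∈ I.map (algebraMap A (PairHens A I)) := by
    rw [PairHens.mem_map_iff_residue_eq_zero, map_sub, AlgHom.commutes, ← ha]
    exact sub_self _
  have h2 := Ideal.mem_map_of_mem (e.symm : PairHens A I →+* B) h1
  rw [Ideal.map_map] at h2
  have h3 : ((e.symm : PairHens A I →+* B).comp (algebraMap A (PairHens A I))) = algebraMap A B := by
    ext a
    exact e.symm.commutes a
  rw [h3] at h2
  have h4 : (e.symm : PairHens A I →+* B) (e b - algebraMap A (PairHens A I) a) =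
      b - algebraMap A B a := by
    change e.symm (e b - algebraMap A (PairHens A I) a) = _
    rw [map_sub, e.symm_apply_apply, e.symm.commutes]
  rw [h4] at h2
  exact h2

theorem mem_of_algebraMap_mem_map_of_isPairHenselization (h : Hens2.IsPairHenselization A I B)
    (a : A) (ha : algebraMap A B a ∈ I.map (algebraMap A B)) : a ∈ I := by
  let e := algEquivPairHens h
  have h2 := Ideal.mem_map_of_mem (e : B →+* PairHens A I) ha
  rw [Ideal.map_map] at h2
  have h3 : ((e : B →+* PairHens A I).comp (algebraMap A B)) = algebraMap A (PairHens A I) := by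
    ext a
    exact e.commutes a
  rw [h3] at h2
  have h4 : (e : B →+* PairHens A I) (algebraMap A B a) = algebraMap A (PairHens A I) a :=
    e.commutes a
  rw [h4, PairHens.mem_map_iff_residue_eq_zero, AlgHom.commutes] at h2
  exact Ideal.Quotient.eq_zero_iff_mem.mp h2

/-- `A/Iⁿ → B/IⁿB` is bijective for every henselization `B` of the pair `(A, I)`. -/
theorem quotientMap_pow_bijective_of_isPairHenselization (h : Hens2.IsPairHenselization A I B)
    (n : ℕ) : Function.Bijective (Ideal.quotientMap ((I ^ n).map (algebraMap A B)) (algebraMap A B)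
      Ideal.le_comap_map) := by
  haveI := flat_of_isPairHenselization h
  rw [quotientMap_bijective_iff]
  exact ⟨exists_sub_mem_map_pow I (exists_sub_mem_map_of_isPairHenselization h) n,
    mem_pow_of_algebraMap_mem_map_pow I (exists_sub_mem_map_of_isPairHenselization h)
      (mem_of_algebraMap_mem_map_of_isPairHenselization h) n⟩

end Consequences

end Groth.Agent.Lib.Helper9.Hens
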