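import Groth.Agent.Lib.Helper9.Hens.NoetherianHens
import Groth.Agent.Lib.Helper9.Hens.PairUniversal
import Mathlib.RingTheory.AdicCompletion.Functoriality

/-!
# Henselization of a Noetherian pair: Noetherian, and same completion
-/

namespace Groth.Agent.Lib.Helper9.Hens

open Groth.Agent.Lib.Helper9

universe u

section

variable {A : Type u} [CommRing A] {I : Ideal A} {B : Type u} [CommRing B] [Algebra A B]
  (hB : Hens2.IsPairHenselization A I B)

include hB

theorem quotientMap_bijective_of_isPairHenselization :
    Function.Bijective (Ideal.quotientMap (I.map (algebraMap A B)) (algebraMap A B)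
      Ideal.le_comap_map) := by
  rw [quotientMap_bijective_iff]
  exact ⟨exists_sub_mem_map_of_isPairHenselization hB,
    mem_of_algebraMap_mem_map_of_isPairHenselization hB⟩

theorem isEtaleCoveredFin_of_isPairHenselization : IsEtaleCoveredFin A B :=
  PairHens.isEtaleCoveredFin.of_algEquiv (algEquivPairHens hB).symm

/-- The completion of `B` along `IB` is faithfully flat over `B`, if flat. -/
theorem faithfullyFlat_adicCompletion_of_flat
    [Module.Flat B (AdicCompletion (I.map (algebraMap A B)) B)] :
    Module.FaithfullyFlat B (AdicCompletion (I.map (algebraMap A B)) B) := by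
  set J := I.map (algebraMap A B) with hJ
  refine ⟨fun n hn => ?_⟩
  rw [Ideal.smul_top_eq_map]
  intro htop
  rw [Submodule.restrictScalars_eq_top_iff] at htop
  have hJn : J ≤ n := by
    have h1 : J ≤ Ideal.jacobson ⊥ := hB.1.jac
    refine h1.trans ?_
    rw [Ideal.jacobson]
    exact sInf_le ⟨bot_le, hn⟩
  have h2 : (n.map (algebraMap B (AdicCompletion J B))).map
      (AdicCompletion.evalOneₐ J).toRingHom = ⊤ := by
    rw [htop]
    exact Ideal.map_top _
  rw [Ideal.map_map, AdicCompletion.evalOneₐ_comp_algebraMap_eq_mk] at h2
  have h3 : n = ⊤ := by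
    have h4 := congrArg (Ideal.comap (Ideal.Quotient.mk J)) h2
    rw [Ideal.comap_map_of_surjective _ Ideal.Quotient.mk_surjective, Ideal.comap_top,
      ← RingHom.ker_eq_comap_bot, Ideal.mk_ker, sup_eq_left.mpr hJn] at h4
    exact h4
  exact hn.ne_top h3

theorem isNoetherianRing_of_isPairHenselization [IsNoetherianRing A] : IsNoetherianRing B := by
  haveI := flat_of_isPairHenselization hB
  set J := I.map (algebraMap A B) with hJ
  have hJfg : J.FG := Ideal.FG.map (IsNoetherian.noetherian I) _
  haveI : IsNoetherianRing (B ⧸ J) :=
    isNoetherianRing_of_ringEquiv (A ⧸ I)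
      (RingEquiv.ofBijective _ (quotientMap_bijective_of_isPairHenselization hB))
  haveI hCN : IsNoetherianRing (AdicCompletion J B) := Groth.Agent.S0542.result B J hJfg
  haveI hCflat : Module.Flat A (AdicCompletion J B) := flat_adicCompletion_of_flat A B I
  have htower : IsScalarTower A B (AdicCompletion J B) :=
    IsScalarTower.of_algebraMap_eq (fun r => rfl)
  haveI : Module.Flat B (AdicCompletion J B) :=
    (isEtaleCoveredFin_of_isPairHenselization hB).flat (AdicCompletion J B)
  haveI := faithfullyFlat_adicCompletion_of_flat hB
  exact Groth.Agent.Lib.Helper54.isNoetherianRing_of_faithfullyFlat B (AdicCompletion J B)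

/-- The map on `I`-adic completions induced by `A → B` is bijective. -/
theorem adicCompletion_map_bijective_of_isPairHenselization :
    Function.Bijective (AdicCompletion.map I (Algebra.linearMap A B) :
      AdicCompletion I A → AdicCompletion I B) := by
  haveI := flat_of_isPairHenselization hB
  have hsurj := exists_sub_mem_map_of_isPairHenselization hB
  have hinj := mem_of_algebraMap_mem_map_of_isPairHenselization hB
  constructor
  · rw [injective_iff_map_eq_zero]
    intro x hx
    apply AdicCompletion.ext
    intro n
    have h1 : (AdicCompletion.map I (Algebra.linearMap A B) x).val n = 0 := by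
      rw [hx]
      rfl
    rw [AdicCompletion.map_val_apply] at h1
    obtain ⟨a, ha⟩ := Submodule.Quotient.mk_surjective _ (x.val n)
    rw [← ha] at h1 ⊢
    rw [LinearMap.reduceModIdeal_apply, Submodule.Quotient.mk_eq_zero, Ideal.smul_top_eq_map] at h1
    have h2 : a ∈ I ^ n := mem_pow_of_algebraMap_mem_map_pow I hsurj hinj n a h1
    change Submodule.Quotient.mk a = 0
    rw [Submodule.Quotient.mk_eq_zero]
    simpa using h2
  · apply AdicCompletion.map_surjective_of_mkQ_comp_surjective
    intro y
    obtain ⟨b, rfl⟩ := Submodule.Quotient.mk_surjective _ y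
    obtain ⟨a, ha⟩ := hsurj b
    refine ⟨a, ?_⟩
    change Submodule.Quotient.mk (algebraMap A B a) = Submodule.Quotient.mk b
    rw [eq_comm, Submodule.Quotient.eq, Ideal.smul_top_eq_map]
    exact ha

end

end Groth.Agent.Lib.Helper9.Hens
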