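import Groth.Agent.Lib.Helper9.Hens.PairColimit
import Groth.Agent.Lib.Helper9.EtaleLift
import Groth.Agent.Lib.Helper3.ProjLift
import Mathlib.LinearAlgebra.TensorProduct.Pi
import Mathlib.LinearAlgebra.Matrix.ToLin

/-!
# Lifting finite projective modules to an étale neighbourhood (helper9)

Let `I ⊆ A` be an ideal.

* `exists_etale_idempotent_lift`: an idempotent endomorphism of `(A/I)ⁿ` lifts to an idempotent
  endomorphism of `A'ⁿ` for some étale `A`-algebra `A'` with `A/I ≅ A'/IA'`;
* `tensorRangeEquiv`: the range of an idempotent endomorphism of `Rⁿ` commutes with base change.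
-/

set_option autoImplicit false

namespace Groth.Agent.Lib.Helper9

open TensorProduct

universe u

section Pi

variable {R : Type*} [CommRing R] (I : Ideal R) {n : ℕ}

theorem mem_smul_top_pi_iff (x : Fin n → R) :
    x ∈ I • (⊤ : Submodule R (Fin n → R)) ↔ ∀ i, x i ∈ I := by
  constructor
  · intro hx
    refine Submodule.smul_induction_on hx ?_ ?_
    · intro a ha y _ i
      simpa using I.mul_mem_right (y i) ha
    · intro y z hy hz i
      exact I.add_mem (hy i) (hz i)
  · intro hx
    have : x = ∑ i, x i • (Pi.single i (1 : R) : Fin n → R) := by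
      ext j
      simp [Finset.sum_apply, Pi.single_apply]
    rw [this]
    exact Submodule.sum_mem _ (fun i _ => Submodule.smul_mem_smul (hx i) trivial)

end Pi

section RangeBaseChange

variable {R : Type u} [CommRing R] (R' : Type u) [CommRing R'] [Algebra R R'] {n : ℕ}

/-- Base change of an endomorphism of `Fin n → R` to `Fin n → R'`. -/
noncomputable def endBaseChange (e : Module.End R (Fin n → R)) : Module.End R' (Fin n → R') :=
  (TensorProduct.piScalarRight R R' R' (Fin n)).toLinearMap ∘ₗ e.baseChange R' ∘ₗ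
    (TensorProduct.piScalarRight R R' R' (Fin n)).symm.toLinearMap

theorem endBaseChange_apply (e : Module.End R (Fin n → R)) (y : Fin n → R') :
    endBaseChange R' e y = TensorProduct.piScalarRight R R' R' (Fin n)
      (e.baseChange R' ((TensorProduct.piScalarRight R R' R' (Fin n)).symm y)) := rfl

theorem endBaseChange_single (e : Module.End R (Fin n → R)) (j i : Fin n) :
    endBaseChange R' e (Pi.single j 1) i = algebraMap R R' (e (Pi.single j 1) i) := by
  rw [endBaseChange_apply, TensorProduct.piScalarRight_symm_single, LinearMap.baseChange_tmul,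
    TensorProduct.piScalarRight_apply, TensorProduct.piScalarRightHom_tmul]
  show e (Pi.single j 1) i • (1 : R') = _
  rw [Algebra.smul_def, mul_one]

/-- The range of an idempotent endomorphism of `Rⁿ` commutes with base change. -/
theorem nonempty_tensorRangeEquiv (e : Module.End R (Fin n → R)) (he : e * e = e) :
    Nonempty (R' ⊗[R] LinearMap.range e ≃ₗ[R'] LinearMap.range (endBaseChange R' e)) := by
  set θ := TensorProduct.piScalarRight R R' R' (Fin n) with hθ
  have hee : ∀ x, e (e x) = e x := fun x => congr($he x)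
  let incl : LinearMap.range e →ₗ[R] (Fin n → R) := (LinearMap.range e).subtype
  let pr : (Fin n → R) →ₗ[R] LinearMap.range e := e.rangeRestrict
  have h1 : incl ∘ₗ pr = e := by
    ext x : 1
    rfl
  have h2 : pr ∘ₗ incl = LinearMap.id := by
    ext ⟨_, ⟨y, rfl⟩⟩ : 2
    simp [pr, incl, hee]
  let α : R' ⊗[R] LinearMap.range e →ₗ[R'] (Fin n → R') := θ.toLinearMap ∘ₗ incl.baseChange R'
  let β : (Fin n → R') →ₗ[R'] R' ⊗[R] LinearMap.range e := pr.baseChange R' ∘ₗ θ.symm.toLinearMap
  have hβα : ∀ x, β (α x) = x := by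
    intro x
    show pr.baseChange R' (θ.symm (θ (incl.baseChange R' x))) = x
    rw [θ.symm_apply_apply, ← LinearMap.comp_apply, ← LinearMap.baseChange_comp, h2,
      LinearMap.baseChange_id, LinearMap.id_apply]
  have hαβ : ∀ y, α (β y) = endBaseChange R' e y := by
    intro y
    show θ (incl.baseChange R' (pr.baseChange R' (θ.symm y))) = _
    rw [← LinearMap.comp_apply, ← LinearMap.baseChange_comp, h1, endBaseChange_apply]
  have hinj : Function.Injective α := Function.LeftInverse.injective hβα
  have hrange : LinearMap.range α = LinearMap.range (endBaseChange R' e) := by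
    apply le_antisymm
    · rintro _ ⟨x, rfl⟩
      refine ⟨α x, ?_⟩
      rw [← hαβ, hβα]
    · rintro _ ⟨y, rfl⟩
      exact ⟨β y, hαβ y⟩
  exact ⟨(LinearEquiv.ofInjective α hinj).trans (LinearEquiv.ofEq _ _ hrange)⟩

end RangeBaseChange

section Descent

open Groth.Agent.Lib.Helper9.Hens CategoryTheory

variable {A : Type u} [CommRing A] {I : Ideal A}

/-- Finitely many elements of a stage killed in the colimit are killed at a later stage. -/
theorem exists_hom_forall_eq_zero (N : EtNbhd A I) (s : Finset N.S)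
    (h : ∀ x ∈ s, PairHens.ι N x = 0) :
    ∃ (N' : EtNbhd A I) (f : N ⟶ N'), ∀ x ∈ s, f.1 x = 0 := by
  classical
  induction s using Finset.induction_on with
  | empty => exact ⟨N, 𝟙 N, by simp⟩
  | insert a s _ ih =>
    obtain ⟨N₁, f₁, hf₁⟩ := ih (fun x hx => h x (Finset.mem_insert_of_mem hx))
    have ha : PairHens.ι N₁ (f₁.1 a) = PairHens.ι N₁ 0 := by
      rw [PairHens.ι_comp, map_zero]
      exact h a (Finset.mem_insert_self a s)
    obtain ⟨N₂, g, hg⟩ := (PairHens.ι_eq_iff _ _).mp ha
    refine ⟨N₂, f₁ ≫ g, ?_⟩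
    intro x hx
    rw [EtNbhd.comp_val, AlgHom.comp_apply]
    rcases Finset.mem_insert.mp hx with rfl | hx
    · rw [hg, map_zero]
    · rw [hf₁ x hx, map_zero]

variable (I)

/-- Idempotent matrices over `A/I` lift to idempotent matrices over an étale `A`-algebra `A'` with
`A/I ≅ A'/IA'`. -/
theorem exists_etale_idempotent_matrix_lift {n : ℕ}
    (mb : Matrix (Fin n) (Fin n) (A ⧸ I)) (hmb : mb * mb = mb) :
    ∃ (A' : Type u) (_ : CommRing A') (_ : Algebra A A'), Algebra.Etale A A' ∧
      Function.Bijective (algebraMap (A ⧸ I) (A' ⧸ I.map (algebraMap A A'))) ∧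
      ∃ Z : Matrix (Fin n) (Fin n) A', Z * Z = Z ∧
        Z.map (Ideal.Quotient.mk (I.map (algebraMap A A'))) =
          mb.map (algebraMap (A ⧸ I) (A' ⧸ I.map (algebraMap A A'))) := by
  classical
  let R := PairHens A I
  let J : Ideal R := I.map (algebraMap A R)
  haveI : HenselianRing R J := PairHens.henselianRing
  let res : R →+* A ⧸ I := (PairHens.residue : R →ₐ[A] A ⧸ I).toRingHom
  have hres : ∀ x : R, x ∈ J ↔ res x = 0 := fun x => PairHens.mem_map_iff_residue_eq_zero x
  choose m₀ hm₀ using fun (i j : Fin n) => PairHens.residue_surjective (A := A) (I := I) (mb i j)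
  let M₀ : Matrix (Fin n) (Fin n) R := Matrix.of m₀
  have hM₀ : M₀.map res = mb := by
    ext i j
    exact hm₀ i j
  let ε₀ : Module.End R (Fin n → R) := Matrix.toLin' M₀
  have h1 : ε₀ * ε₀ - ε₀ = Matrix.toLin' (M₀ * M₀ - M₀) := by
    rw [map_sub, Matrix.toLin'_mul]
    rfl
  have h2 : ∀ i j, (M₀ * M₀ - M₀) i j ∈ J := by
    intro i j
    rw [hres]
    have : (M₀ * M₀ - M₀).map res = 0 := by
      rw [Matrix.map_sub (f := res) (fun a b => map_sub res a b), Matrix.map_mul, hM₀, hmb,
        sub_self]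
    exact congrFun (congrFun this i) j
  have hrange : LinearMap.range (ε₀ * ε₀ - ε₀) ≤ J • (⊤ : Submodule R (Fin n → R)) := by
    rintro _ ⟨v, rfl⟩
    rw [mem_smul_top_pi_iff, h1]
    intro i
    rw [Matrix.toLin'_apply]
    show ∑ j, (M₀ * M₀ - M₀) i j * v j ∈ J
    exact J.sum_mem (fun j _ => J.mul_mem_right _ (h2 i j))
  obtain ⟨E, hEE, hEε⟩ := Groth.Agent.Lib.Helper3.exists_idempotent_end_lift J ε₀ hrange
  let M : Matrix (Fin n) (Fin n) R := LinearMap.toMatrix' E
  have hMM : M * M = M := by
    rw [← LinearMap.toMatrix'_mul, hEE]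
  have hMres : ∀ i j, res (M i j) = mb i j := by
    intro i j
    have h3 : (E - ε₀) (Pi.single j 1) ∈ J • (⊤ : Submodule R (Fin n → R)) := hEε ⟨_, rfl⟩
    rw [mem_smul_top_pi_iff] at h3
    have h4 := (hres _).mp (h3 i)
    rw [LinearMap.sub_apply, Pi.sub_apply, map_sub, sub_eq_zero] at h4
    have h5 : E (Pi.single j 1) i = M i j := (LinearMap.toMatrix'_apply E i j).symm
    have h6 : ε₀ (Pi.single j 1) i = M₀ i j := by
      show Matrix.toLin' M₀ (Pi.single j 1) i = M₀ i j
      rw [Matrix.toLin'_apply, Matrix.mulVec_single_one]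
      rfl
    rw [h5, h6] at h4
    rw [h4]
    exact hm₀ i j
  -- descend the entries of `M` to a stage
  obtain ⟨N, hN⟩ := PairHens.exists_common
    (Finset.univ.image (fun p : Fin n × Fin n => M p.1 p.2))
  have hN' : ∀ i j, ∃ y : N.S, PairHens.ι N y = M i j := fun i j =>
    hN _ (Finset.mem_image.mpr ⟨(i, j), Finset.mem_univ _, rfl⟩)
  choose y hy using hN'
  let Y : Matrix (Fin n) (Fin n) N.S := Matrix.of y
  have hYM : Y.map (PairHens.ι N) = M := by
    ext i j
    exact hy i j
  have hYY : ∀ x ∈ Finset.univ.image (fun p : Fin n × Fin n => (Y * Y - Y) p.1 p.2),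
      PairHens.ι N x = 0 := by
    intro x hx
    obtain ⟨p, -, rfl⟩ := Finset.mem_image.mp hx
    have : (Y * Y - Y).map (PairHens.ι N) = 0 := by
      rw [Matrix.map_sub (f := PairHens.ι N) (fun a b => map_sub (PairHens.ι N) a b),
        Matrix.map_mul, hYM, hMM, sub_self]
    exact congrFun (congrFun this p.1) p.2
  obtain ⟨N', f, hf⟩ := exists_hom_forall_eq_zero N _ hYY
  let Y' : Matrix (Fin n) (Fin n) N'.S := Y.map f.1
  have hY'Y' : Y' * Y' = Y' := by
    have : (Y * Y - Y).map f.1 = 0 := by
      ext i j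
      exact hf _ (Finset.mem_image.mpr ⟨(i, j), Finset.mem_univ _, rfl⟩)
    rw [Matrix.map_sub (f := f.1) (fun a b => map_sub f.1 a b), Matrix.map_mul, sub_eq_zero] at this
    exact this
  have hY'σ : ∀ i j, N'.σ (Y' i j) = mb i j := by
    intro i j
    show N'.σ (f.1 (y i j)) = mb i j
    rw [f.σ_apply, ← PairHens.residue_ι, hy]
    exact hMres i j
  obtain ⟨A', _, _, hEt, ι', hbij, hι'⟩ := exists_etale_lift I N'.σ
  refine ⟨A', inferInstance, inferInstance, hEt, hbij, Y'.map ι', ?_, ?_⟩
  · rw [← Matrix.map_mul, hY'Y']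
  · ext i j
    show Ideal.Quotient.mk _ (ι' (Y' i j)) = algebraMap _ _ (mb i j)
    rw [hι', hY'σ]

end Descent

end Groth.Agent.Lib.Helper9
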