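import Groth.Agent.Lib.Helper9.Hens.Universal
import Groth.Prelude.Def_Hensel
import Groth.Agent.S0501

/-!
# The henselization of a local ring
-/

namespace Groth.Agent.Lib.Helper9.Hens

open CategoryTheory TensorProduct Polynomial IsLocalRing

universe u

variable (R : Type u) [CommRing R] [IsLocalRing R]

/-- The henselization of a local ring `R` (a model). -/
abbrev Henselization : Type u := PairHens R (maximalIdeal R)

namespace Henselization

open PairHens

instance : Nontrivial (Henselization R) := by
  refine ⟨⟨0, 1, fun h => ?_⟩⟩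
  have h1 := congrArg (residue : PairHens R (maximalIdeal R) →ₐ[R] R ⧸ maximalIdeal R) h
  rw [map_zero, map_one] at h1
  exact zero_ne_one h1

theorem isUnit_iff (x : Henselization R) : IsUnit x ↔ residue x ≠ 0 := by
  rw [isUnit_iff_isUnit_residue]
  letI : Field (R ⧸ maximalIdeal R) := Ideal.Quotient.field _
  exact isUnit_iff_ne_zero

instance : IsLocalRing (Henselization R) := by
  apply IsLocalRing.of_isUnit_or_isUnit_one_sub_self
  intro a
  by_cases h : residue a = 0
  · right
    rw [isUnit_iff, map_sub, map_one, h, sub_zero]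
    exact one_ne_zero
  · left
    exact (isUnit_iff R a).mpr h

theorem mem_maximalIdeal_iff (x : Henselization R) :
    x ∈ maximalIdeal (Henselization R) ↔ residue x = 0 := by
  rw [mem_maximalIdeal, mem_nonunits_iff, isUnit_iff, not_not]

theorem map_maximalIdeal :
    (maximalIdeal R).map (algebraMap R (Henselization R)) = maximalIdeal (Henselization R) := by
  ext x
  rw [mem_map_iff_residue_eq_zero, mem_maximalIdeal_iff]

instance : IsLocalHom (algebraMap R (Henselization R)) := by
  constructor
  intro a ha
  rw [isUnit_iff, AlgHom.commutes] at ha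
  by_contra hna
  exact ha (Ideal.Quotient.eq_zero_iff_mem.mpr ((mem_maximalIdeal a).mpr hna))

instance : HenselianLocalRing (Henselization R) where
  is_henselian := by
    intro f hf a₀ h₁ h₂
    rw [← map_maximalIdeal] at h₁ ⊢
    exact HenselianRing.is_henselian f hf a₀ h₁ (h₂.map _)

end Henselization

/-- Unique lifting of points of étale algebras to a henselian local ring. -/
theorem existsUnique_lift_of_henselianLocalRing {A : Type u} [CommRing A] (T : Type u) [CommRing T]
    [HenselianLocalRing T] [Algebra A T] (S : Type u) [CommRing S] [Algebra A S]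
    [Algebra.Etale A S] (τ : S →ₐ[A] T ⧸ maximalIdeal T) :
    ∃! g : S →ₐ[A] T, (Ideal.Quotient.mkₐ A (maximalIdeal T)).comp g = τ := by
  let τ₀ : S →+* ResidueField T := τ.toRingHom
  have hτ₀ : ∀ x, τ₀ x = τ x := fun _ => rfl
  let q : Ideal S := RingHom.ker τ₀
  haveI hq : q.IsPrime := RingHom.ker_isPrime τ₀
  have hf₂ : q.primeCompl ≤ (IsUnit.submonoid (ResidueField T)).comap τ₀ := by
    intro x hx
    rw [Submonoid.mem_comap, IsUnit.mem_submonoid_iff, isUnit_iff_ne_zero]
    exact hx
  let τ' : q.ResidueField →+* ResidueField T := Ideal.ResidueField.lift q τ₀ le_rfl hf₂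
  have hτ'1 : ∀ x : S, τ' (algebraMap S q.ResidueField x) = τ₀ x := fun x =>
    Ideal.ResidueField.lift_algebraMap q τ₀ le_rfl hf₂ x
  have hτ' : τ'.comp (algebraMap A q.ResidueField) = (residue T).comp (algebraMap A T) := by
    ext a
    rw [RingHom.comp_apply, RingHom.comp_apply, IsScalarTower.algebraMap_apply A S q.ResidueField,
      hτ'1, hτ₀, τ.commutes]
    rfl
  obtain ⟨f, ⟨hf1, hf2⟩, huniq⟩ := Groth.Agent.S0501.result A T S q τ' hτ'
  refine ⟨f, ?_, ?_⟩
  · apply AlgHom.ext
    intro x
    rw [AlgHom.comp_apply]
    have := hf2 x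
    rw [hτ'1, hτ₀] at this
    exact this
  · intro g' hg'
    have hg'' : ∀ x, residue T (g' x) = τ x := fun x => DFunLike.congr_fun hg' x
    apply huniq
    refine ⟨?_, ?_⟩
    · ext a
      rw [Ideal.mem_comap]
      change g' a ∈ maximalIdeal T ↔ a ∈ RingHom.ker τ₀
      rw [← residue_eq_zero_iff, hg'', RingHom.mem_ker, hτ₀]
    · intro a
      rw [hτ'1, hτ₀, hg'']

namespace Henselization

variable (R : Type u) [CommRing R] [IsLocalRing R]

instance isHenselization : Hensel.IsHenselization R (Henselization R) where
  henselian := inferInstance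
  universal := by
    intro T _ _ f hf
    letI : Algebra R T := f.toAlgebra
    have hIJ : (maximalIdeal R).map (algebraMap R T) ≤ maximalIdeal T := by
      rw [Ideal.map_le_iff_le_comap]
      intro a ha
      rw [Ideal.mem_comap, mem_maximalIdeal, mem_nonunits_iff]
      intro hu
      exact ((mem_maximalIdeal a).mp ha) (hf.map_nonunit a hu)
    obtain ⟨g, -, hg⟩ := PairHens.existsUnique_algHom (maximalIdeal T) hIJ
      (fun N τ => existsUnique_lift_of_henselianLocalRing T N.S τ)
    refine ⟨g.toRingHom, ?_, ?_⟩
    · ext a
      exact g.commutes a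
    · intro g' hg'
      let g'' : Henselization R →ₐ[R] T :=
        { g' with commutes' := fun a => DFunLike.congr_fun hg' a }
      have h1 := hg g'' trivial
      rw [← h1]

end Henselization

end Groth.Agent.Lib.Helper9.Hens
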