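import Groth.Agent.Lib.Helper9.Hens.Local

/-!
# Uniqueness of the henselization
-/

namespace Groth.Agent.Lib.Helper9.Hens

open IsLocalRing

universe u

section

variable (R : Type u) [CommRing R] [IsLocalRing R]
  (S₁ : Type u) [CommRing S₁] [IsLocalRing S₁] [Algebra R S₁] [IsLocalHom (algebraMap R S₁)]
  [h₁ : Hensel.IsHenselization R S₁]
  (S₂ : Type u) [CommRing S₂] [IsLocalRing S₂] [Algebra R S₂] [IsLocalHom (algebraMap R S₂)]
  [h₂ : Hensel.IsHenselization R S₂]

/-- Two henselizations of `R` are isomorphic as `R`-algebras. -/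
theorem nonempty_algEquiv_of_isHenselization : Nonempty (S₁ ≃ₐ[R] S₂) := by
  haveI := h₁.henselian
  haveI := h₂.henselian
  obtain ⟨g, hg, -⟩ := h₁.universal S₂ (algebraMap R S₂) inferInstance
  obtain ⟨g', hg', -⟩ := h₂.universal S₁ (algebraMap R S₁) inferInstance
  obtain ⟨i₁, -, hi₁⟩ := h₁.universal S₁ (algebraMap R S₁) inferInstance
  obtain ⟨i₂, -, hi₂⟩ := h₂.universal S₂ (algebraMap R S₂) inferInstance
  have e1 : g'.comp g = RingHom.id S₁ := by
    have a1 : g'.comp g = i₁ := hi₁ (g'.comp g) (by
      change (g'.comp g).comp (algebraMap R S₁) = algebraMap R S₁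
      rw [RingHom.comp_assoc, hg, hg'])
    have a2 : RingHom.id S₁ = i₁ := hi₁ (RingHom.id S₁) (RingHom.id_comp _)
    rw [a1, a2]
  have e2 : g.comp g' = RingHom.id S₂ := by
    have a1 : g.comp g' = i₂ := hi₂ (g.comp g') (by
      change (g.comp g').comp (algebraMap R S₂) = algebraMap R S₂
      rw [RingHom.comp_assoc, hg', hg])
    have a2 : RingHom.id S₂ = i₂ := hi₂ (RingHom.id S₂) (RingHom.id_comp _)
    rw [a1, a2]
  exact ⟨{ toFun := g
           invFun := g'
           left_inv := fun x => DFunLike.congr_fun e1 x
           right_inv := fun x => DFunLike.congr_fun e2 x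
           map_mul' := map_mul g
           map_add' := map_add g
           commutes' := fun r => DFunLike.congr_fun hg r }⟩

end

section

variable (R : Type u) [CommRing R] [IsLocalRing R]
  (S : Type u) [CommRing S] [IsLocalRing S] [Algebra R S] [IsLocalHom (algebraMap R S)]
  [Hensel.IsHenselization R S]

/-- Any henselization of `R` is isomorphic to the model. -/
noncomputable def algEquivHenselization : S ≃ₐ[R] Henselization R :=
  (nonempty_algEquiv_of_isHenselization R S (Henselization R)).some

omit [IsLocalRing R] [IsLocalHom (algebraMap R S)] [Hensel.IsHenselization R S] in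
theorem mem_maximalIdeal_iff_of_algEquiv {S' : Type u} [CommRing S'] [IsLocalRing S']
    [Algebra R S'] (e : S ≃ₐ[R] S') (x : S) : x ∈ maximalIdeal S ↔ e x ∈ maximalIdeal S' := by
  rw [mem_maximalIdeal, mem_maximalIdeal, mem_nonunits_iff, mem_nonunits_iff]
  exact not_congr ⟨fun h => h.map e, fun h => by simpa using h.map e.symm⟩

/-- `𝔪_R S = 𝔪_S` for any henselization `S` of `R`. -/
theorem map_maximalIdeal_of_isHenselization :
    (maximalIdeal R).map (algebraMap R S) = maximalIdeal S := by
  let e := algEquivHenselization R S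
  apply le_antisymm
  · rw [Ideal.map_le_iff_le_comap]
    intro a ha
    rw [Ideal.mem_comap, mem_maximalIdeal, mem_nonunits_iff]
    intro hu
    exact ((mem_maximalIdeal a).mp ha) (isUnit_of_map_unit (algebraMap R S) a hu)
  · intro x hx
    have h1 : e x ∈ (maximalIdeal R).map (algebraMap R (Henselization R)) := by
      rw [Henselization.map_maximalIdeal]
      exact (mem_maximalIdeal_iff_of_algEquiv R S e x).mp hx
    have h2 := Ideal.mem_map_of_mem e.symm.toAlgHom.toRingHom h1
    rw [Ideal.map_map] at h2
    have h3 : e.symm.toAlgHom.toRingHom.comp (algebraMap R (Henselization R)) = algebraMap R S :=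
      RingHom.ext fun r => e.symm.commutes r
    rw [h3] at h2
    have h4 : e.symm.toAlgHom.toRingHom (e x) = x := e.symm_apply_apply x
    rw [h4] at h2
    exact h2

/-- Every element of a henselization of `R` is congruent to an element of `R` modulo the maximal
ideal. -/
theorem exists_sub_mem_maximalIdeal_of_isHenselization (x : S) :
    ∃ a : R, x - algebraMap R S a ∈ maximalIdeal S := by
  let e := algEquivHenselization R S
  obtain ⟨a, ha⟩ := Ideal.Quotient.mk_surjective (PairHens.residue (e x))
  refine ⟨a, ?_⟩
  rw [mem_maximalIdeal_iff_of_algEquiv R S e, Henselization.mem_maximalIdeal_iff, map_sub,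
    map_sub, e.commutes, AlgHom.commutes, ← ha]
  exact sub_self _

/-- The residue field extension of a henselization is trivial. -/
theorem residueField_map_bijective_of_isHenselization :
    Function.Bijective (IsLocalRing.ResidueField.map (algebraMap R S)) := by
  refine ⟨RingHom.injective _, ?_⟩
  intro y
  obtain ⟨x, rfl⟩ := IsLocalRing.residue_surjective y
  obtain ⟨a, ha⟩ := exists_sub_mem_maximalIdeal_of_isHenselization R S x
  refine ⟨IsLocalRing.residue R a, ?_⟩
  rw [IsLocalRing.ResidueField.map_residue]
  symm
  rw [← sub_eq_zero, ← map_sub, IsLocalRing.residue_eq_zero_iff]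
  exact ha

end

end Groth.Agent.Lib.Helper9.Hens
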