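import Groth.Agent.Lib.Helper9.Hens.Unique
import Groth.Agent.Lib.Helper9.Hens.Flat
import Groth.Agent.Lib.Helper9.TorsionTensor
import Mathlib.RingTheory.Flat.FaithfullyFlat.Algebra

/-!
# Flatness of the henselization of a local ring, quotients by powers of the maximal ideal
-/

namespace Groth.Agent.Lib.Helper9.Hens

open IsLocalRing

universe u

variable (R : Type u) [CommRing R] [IsLocalRing R]
  (S : Type u) [CommRing S] [IsLocalRing S] [Algebra R S] [IsLocalHom (algebraMap R S)]
  [Hensel.IsHenselization R S]

theorem flat_of_isHenselization : Module.Flat R S :=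
  Module.Flat.of_linearEquiv (algEquivHenselization R S).toLinearEquiv

theorem faithfullyFlat_of_isHenselization : Module.FaithfullyFlat R S := by
  haveI := flat_of_isHenselization R S
  exact Module.FaithfullyFlat.of_flat_of_isLocalHom

theorem exists_sub_mem_map_maximalIdeal_of_isHenselization (s : S) :
    ∃ r : R, s - algebraMap R S r ∈ (maximalIdeal R).map (algebraMap R S) := by
  rw [map_maximalIdeal_of_isHenselization]
  exact exists_sub_mem_maximalIdeal_of_isHenselization R S s

omit [Hensel.IsHenselization R S] in
theorem mem_maximalIdeal_of_algebraMap_mem (r : R)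
    (h : algebraMap R S r ∈ (maximalIdeal R).map (algebraMap R S)) : r ∈ maximalIdeal R := by
  rw [mem_maximalIdeal, mem_nonunits_iff]
  intro hu
  have h1 : (maximalIdeal R).map (algebraMap R S) ≤ maximalIdeal S := by
    rw [Ideal.map_le_iff_le_comap]
    intro a ha
    rw [Ideal.mem_comap, mem_maximalIdeal, mem_nonunits_iff]
    intro hu'
    exact ((mem_maximalIdeal a).mp ha) (isUnit_of_map_unit (algebraMap R S) a hu')
  exact ((mem_maximalIdeal _).mp (h1 h)) (hu.map _)

/-- `R/𝔪ⁿ → S/𝔪ⁿS` is bijective for a henselization `S` of `R`. -/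
theorem quotientMap_pow_bijective_of_isHenselization (n : ℕ) :
    Function.Bijective (Ideal.quotientMap
      (Ideal.map (algebraMap R S) (maximalIdeal R ^ n)) (algebraMap R S) Ideal.le_comap_map) := by
  haveI := flat_of_isHenselization R S
  rw [quotientMap_bijective_iff]
  exact ⟨exists_sub_mem_map_pow (maximalIdeal R)
      (exists_sub_mem_map_maximalIdeal_of_isHenselization R S) n,
    mem_pow_of_algebraMap_mem_map_pow (maximalIdeal R)
      (exists_sub_mem_map_maximalIdeal_of_isHenselization R S)
      (mem_maximalIdeal_of_algebraMap_mem R S) n⟩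

end Groth.Agent.Lib.Helper9.Hens
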