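import Groth.Agent.Lib.Helper9.Hens.LocalFlat
import Groth.Agent.Lib.Helper9.HensK.StrictUnique
import Groth.Agent.Lib.Helper54.Reduced

/-!
# Nilradical of (strict) henselizations

For an étale `A`-algebra `B`, `nilradical B = (nilradical A) B`.  Passing to the filtered colimit this gives
the same statement for the henselization models, and by uniqueness for every (strict) henselization.
-/

namespace Groth.Agent.Lib.Helper9

open TensorProduct

universe u

/-- If `1 ⊗ b = 0` in `(A ⧸ I) ⊗[A] B` then `b ∈ I B`. -/
theorem mem_map_of_one_tmul_eq_zero {A B : Type u} [CommRing A] [CommRing B] [Algebra A B]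
    (I : Ideal A) (b : B) (h : (1 : A ⧸ I) ⊗ₜ[A] b = 0) : b ∈ I.map (algebraMap A B) := by
  have h1 := congrArg (TensorProduct.quotTensorEquivQuotSMul B I) h
  rw [map_zero] at h1
  have h2 : (TensorProduct.quotTensorEquivQuotSMul B I) ((1 : A ⧸ I) ⊗ₜ[A] b) =
      Submodule.Quotient.mk b := by
    have : (1 : A ⧸ I) = Ideal.Quotient.mk I 1 := (map_one _).symm
    rw [this, TensorProduct.quotTensorEquivQuotSMul_mk_tmul, one_smul]
  rw [h2, Submodule.Quotient.mk_eq_zero, Ideal.smul_top_eq_map] at h1
  exact h1

/-- For an étale algebra, the nilradical is the extension of the nilradical of the base. -/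
theorem nilradical_eq_map_of_etale (A B : Type u) [CommRing A] [CommRing B] [Algebra A B]
    [Algebra.Etale A B] : nilradical B = (nilradical A).map (algebraMap A B) := by
  apply le_antisymm
  · intro b hb
    haveI : IsReduced (A ⧸ nilradical A) :=
      (Ideal.isRadical_iff_quotient_reduced _).mp (Ideal.radical_isRadical _)
    haveI : IsReduced ((A ⧸ nilradical A) ⊗[A] B) :=
      Groth.Agent.Lib.Helper54.isReduced_of_etale (A ⧸ nilradical A) _
    apply mem_map_of_one_tmul_eq_zero
    apply IsNilpotent.eq_zero
    obtain ⟨n, hn⟩ := mem_nilradical.mp hb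
    exact ⟨n, by rw [Algebra.TensorProduct.tmul_pow, hn, one_pow, tmul_zero]⟩
  · rw [Ideal.map_le_iff_le_comap]
    intro a ha
    exact mem_nilradical.mpr (IsNilpotent.map (mem_nilradical.mp ha) (algebraMap A B))

namespace Hens

variable {A : Type u} [CommRing A] {I : Ideal A}

theorem PairHens.nilradical_eq_map :
    nilradical (PairHens A I) = (nilradical A).map (algebraMap A (PairHens A I)) := by
  apply le_antisymm
  · intro x hx
    obtain ⟨N, e, rfl⟩ := PairHens.exists_rep x
    obtain ⟨n, hn⟩ := mem_nilradical.mp hx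
    rw [← map_pow, ← map_zero (PairHens.ι N)] at hn
    obtain ⟨N', f, hf⟩ := (PairHens.ι_eq_iff _ _).mp hn
    rw [map_pow, map_zero] at hf
    have h1 : f.1 e ∈ nilradical N'.S := mem_nilradical.mpr ⟨n, hf⟩
    rw [nilradical_eq_map_of_etale A N'.S] at h1
    have h2 : PairHens.ιₐ N' (f.1 e) ∈
        ((nilradical A).map (algebraMap A N'.S)).map (PairHens.ιₐ N' : N'.S →+* PairHens A I) :=
      Ideal.mem_map_of_mem _ h1
    rw [Ideal.map_map, AlgHom.comp_algebraMap] at h2
    have h3 : PairHens.ιₐ N' (f.1 e) = PairHens.ι N e := PairHens.ι_comp f e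
    rw [h3] at h2
    exact h2
  · rw [Ideal.map_le_iff_le_comap]
    intro a ha
    exact mem_nilradical.mpr (IsNilpotent.map (mem_nilradical.mp ha) (algebraMap A (PairHens A I)))

end Hens

namespace HensK

variable {A : Type u} [CommRing A] {K : Type u} [CommRing K] [Algebra A K]

theorem PtColim.nilradical_eq_map :
    nilradical (PtColim A K) = (nilradical A).map (algebraMap A (PtColim A K)) := by
  apply le_antisymm
  · intro x hx
    obtain ⟨N, e, rfl⟩ := PtColim.exists_rep x
    obtain ⟨n, hn⟩ := mem_nilradical.mp hx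
    rw [← map_pow, ← map_zero (PtColim.ι N)] at hn
    obtain ⟨N', f, hf⟩ := (PtColim.ι_eq_iff _ _).mp hn
    rw [map_pow, map_zero] at hf
    have h1 : f.1 e ∈ nilradical N'.S := mem_nilradical.mpr ⟨n, hf⟩
    rw [nilradical_eq_map_of_etale A N'.S] at h1
    have h2 : PtColim.ιₐ N' (f.1 e) ∈
        ((nilradical A).map (algebraMap A N'.S)).map (PtColim.ιₐ N' : N'.S →+* PtColim A K) :=
      Ideal.mem_map_of_mem _ h1
    rw [Ideal.map_map, AlgHom.comp_algebraMap] at h2
    have h3 : PtColim.ιₐ N' (f.1 e) = PtColim.ι N e := PtColim.ι_comp f e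
    rw [h3] at h2
    exact h2
  · rw [Ideal.map_le_iff_le_comap]
    intro a ha
    exact mem_nilradical.mpr (IsNilpotent.map (mem_nilradical.mp ha) (algebraMap A (PtColim A K)))

end HensK

section transport

open IsLocalRing

/-- Transport of "nilradical is extended" along an algebra isomorphism. -/
theorem nilradical_eq_map_of_algEquiv {R S S' : Type u} [CommRing R] [CommRing S] [CommRing S']
    [Algebra R S] [Algebra R S'] (e : S ≃ₐ[R] S')
    (h : nilradical S' = (nilradical R).map (algebraMap R S')) :
    nilradical S = (nilradical R).map (algebraMap R S) := by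
  apply le_antisymm
  · intro x hx
    have h1 : e x ∈ nilradical S' := mem_nilradical.mpr (IsNilpotent.map (mem_nilradical.mp hx) e)
    rw [h] at h1
    have h2 : e.symm (e x) ∈
        ((nilradical R).map (algebraMap R S')).map ((e.symm : S' →ₐ[R] S) : S' →+* S) :=
      Ideal.mem_map_of_mem _ h1
    rw [Ideal.map_map, AlgHom.comp_algebraMap, e.symm_apply_apply] at h2
    exact h2
  · rw [Ideal.map_le_iff_le_comap]
    intro a ha
    exact mem_nilradical.mpr (IsNilpotent.map (mem_nilradical.mp ha) (algebraMap R S))

variable (R S : Type u) [CommRing R] [IsLocalRing R] [CommRing S] [IsLocalRing S]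
    [Algebra R S] [IsLocalHom (algebraMap R S)]

theorem nilradical_eq_map_of_isHenselization [Hensel.IsHenselization R S] :
    nilradical S = (nilradical R).map (algebraMap R S) :=
  nilradical_eq_map_of_algEquiv (Hens.algEquivHenselization R S) Hens.PairHens.nilradical_eq_map

theorem nilradical_eq_map_of_isStrictHenselization [Hensel.IsStrictHenselization R S] :
    nilradical S = (nilradical R).map (algebraMap R S) :=
  nilradical_eq_map_of_algEquiv (HensK.algEquivStrictHenselization R S)
    HensK.PtColim.nilradical_eq_map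

end transport

end Groth.Agent.Lib.Helper9
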