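import Groth.Agent.Lib.Helper9.Hens.Noetherian

/-!
# A local ring is Noetherian iff its (strict) henselization is
-/

namespace Groth.Agent.Lib.Helper9

universe u

theorem Hens.PairHens.isEtaleCoveredFin {A : Type u} [CommRing A] {I : Ideal A} :
    IsEtaleCoveredFin A (Hens.PairHens A I) := by
  intro l x
  obtain ⟨N, y, hy⟩ := Hens.PairHens.exists_common_fun x
  exact ⟨N.S, inferInstance, inferInstance, inferInstance, Hens.PairHens.ιₐ N,
    fun i => ⟨y i, hy i⟩⟩

theorem HensK.PtColim.isEtaleCoveredFin {A : Type u} [CommRing A] {K : Type u} [CommRing K]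
    [Algebra A K] : IsEtaleCoveredFin A (HensK.PtColim A K) := by
  intro l x
  obtain ⟨N, y, hy⟩ := HensK.PtColim.exists_common_fun x
  exact ⟨N.S, inferInstance, inferInstance, inferInstance, HensK.PtColim.ιₐ N,
    fun i => ⟨y i, hy i⟩⟩

section

variable (R S : Type u) [CommRing R] [IsLocalRing R] [CommRing S] [IsLocalRing S]
    [Algebra R S] [IsLocalHom (algebraMap R S)]

theorem isEtaleCoveredFin_of_isHenselization [Hensel.IsHenselization R S] :
    IsEtaleCoveredFin R S :=
  Hens.PairHens.isEtaleCoveredFin.of_algEquiv (Hens.algEquivHenselization R S).symm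

theorem isEtaleCoveredFin_of_isStrictHenselization [Hensel.IsStrictHenselization R S] :
    IsEtaleCoveredFin R S :=
  HensK.PtColim.isEtaleCoveredFin.of_algEquiv (HensK.algEquivStrictHenselization R S).symm

theorem isNoetherianRing_iff_of_isHenselization [Hensel.IsHenselization R S] :
    IsNoetherianRing R ↔ IsNoetherianRing S := by
  constructor
  · intro hR
    haveI := Hens.flat_of_isHenselization R S
    exact isNoetherianRing_of_isEtaleCoveredFin R S (isEtaleCoveredFin_of_isHenselization R S)
      (Hens.map_maximalIdeal_of_isHenselization R S)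
  · intro hS
    haveI := Hens.faithfullyFlat_of_isHenselization R S
    exact Groth.Agent.Lib.Helper54.isNoetherianRing_of_faithfullyFlat R S

theorem isNoetherianRing_iff_of_isStrictHenselization [Hensel.IsStrictHenselization R S] :
    IsNoetherianRing R ↔ IsNoetherianRing S := by
  constructor
  · intro hR
    haveI := HensK.flat_of_isStrictHenselization R S
    exact isNoetherianRing_of_isEtaleCoveredFin R S
      (isEtaleCoveredFin_of_isStrictHenselization R S)
      (HensK.map_maximalIdeal_of_isStrictHenselization R S)
  · intro hS
    haveI := HensK.faithfullyFlat_of_isStrictHenselization R S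
    exact Groth.Agent.Lib.Helper54.isNoetherianRing_of_faithfullyFlat R S

end

end Groth.Agent.Lib.Helper9
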