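import Groth.Agent.Lib.Helper9.WeakAss.Hens
import Mathlib.RingTheory.Etale.Field
import Mathlib.RingTheory.HopkinsLevitzki
import Mathlib.RingTheory.LocalRing.ResidueField.Ideal
import Mathlib.RingTheory.Localization.Submodule

/-!
# Fibre rings of ind-étale algebras (helper9)

* over a field `K`, a Noetherian `K`-algebra `F` all of whose elements come from étale `K`-algebras
  is a finite product of separable algebraic field extensions of `K`;
* if finite families of elements of `S` come from étale `R`-algebras, then every element of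
  `T ⊗[R] S` comes from an étale `T`-algebra;
* hence for `S` Noetherian the fibre rings `κ(p) ⊗[R] S` are finite products of separable algebraic
  field extensions of `κ(p)`.
-/

set_option autoImplicit false

namespace Groth.Agent.Lib.Helper9

open TensorProduct

universe u

section Field

variable {K F : Type u} [Field K] [CommRing F] [Algebra K F]

theorem IsEtaleCovered.isIntegral_of_field (h : IsEtaleCovered K F) : Algebra.IsIntegral K F := by
  refine ⟨fun x => ?_⟩
  obtain ⟨E, _, _, _, φ, y, rfl⟩ := h x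
  have : Module.Finite K E := Algebra.FormallyUnramified.finite_of_free K E
  exact (Algebra.IsIntegral.isIntegral (R := K) y).map φ

theorem IsEtaleCovered.isReduced_of_field (h : IsEtaleCovered K F) : IsReduced F := by
  constructor
  intro x hx
  obtain ⟨E, _, _, _, φ, y, rfl⟩ := h x
  have hred : IsReduced (E ⧸ RingHom.ker φ) :=
    Algebra.FormallyUnramified.isReduced_of_field K (E ⧸ RingHom.ker φ)
  obtain ⟨n, hn⟩ := hx
  have h1 : IsNilpotent (Ideal.Quotient.mk (RingHom.ker φ) y) := by
    refine ⟨n, ?_⟩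
    rw [← map_pow, Ideal.Quotient.eq_zero_iff_mem, RingHom.mem_ker, map_pow]
    exact hn
  have h2 := h1.eq_zero
  rw [Ideal.Quotient.eq_zero_iff_mem, RingHom.mem_ker] at h2
  exact h2

theorem IsEtaleCovered.krullDimLE_zero_of_field (h : IsEtaleCovered K F) : Ring.KrullDimLE 0 F := by
  have := h.isIntegral_of_field
  refine Ring.krullDimLE_zero_iff.mpr fun J hJ => ?_
  refine Ideal.isMaximal_of_isIntegral_of_isMaximal_comap (R := K) J ?_
  have hp : (J.comap (algebraMap K F)).IsPrime := Ideal.comap_isPrime _ _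
  rw [Ideal.eq_bot_of_prime (J.comap (algebraMap K F))]
  exact Ideal.bot_isMaximal

theorem IsEtaleCovered.isSeparable_quotient (h : IsEtaleCovered K F) (m : Ideal F) [m.IsMaximal] :
    letI := Ideal.Quotient.field m
    Algebra.IsSeparable K (F ⧸ m) := by
  letI := Ideal.Quotient.field m
  rw [Algebra.isSeparable_def]
  intro z
  obtain ⟨x, rfl⟩ := Ideal.Quotient.mk_surjective z
  obtain ⟨E, _, _, _, φ, y, rfl⟩ := h x
  let ψ : E →ₐ[K] F ⧸ m := (Ideal.Quotient.mkₐ K m).comp φ
  have hprime : (RingHom.ker ψ).IsPrime := RingHom.ker_isPrime ψ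
  have hsep : Algebra.IsSeparable K (E ⧸ RingHom.ker ψ) := inferInstance
  have h1 : IsSeparable K (Ideal.Quotient.mk (RingHom.ker ψ) y) :=
    Algebra.IsSeparable.isSeparable K _
  have h2 : Ideal.kerLiftAlg ψ (Ideal.Quotient.mk (RingHom.ker ψ) y) = ψ y :=
    Ideal.kerLiftAlg_mk ψ y
  show IsSeparable K (ψ y)
  rw [← h2]
  unfold IsSeparable
  rw [minpoly.algHom_eq _ (Ideal.kerLiftAlg_injective ψ)]
  exact h1

/-- A Noetherian algebra over a field, all of whose elements come from étale algebras, is a finite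
product of separable algebraic field extensions. -/
theorem IsEtaleCovered.exists_algEquiv_pi_of_field [IsNoetherianRing F] (h : IsEtaleCovered K F) :
    ∃ (n : ℕ) (L : Fin n → Type u) (_ : ∀ i, Field (L i)) (_ : ∀ i, Algebra K (L i)),
      (∀ i, Algebra.IsSeparable K (L i)) ∧ Nonempty (F ≃ₐ[K] (Π i, L i)) := by
  have := h.isReduced_of_field
  have hdim := h.krullDimLE_zero_of_field
  have : IsArtinianRing F :=
    isArtinianRing_iff_isNoetherianRing_krullDimLE_zero.mpr ⟨inferInstance, hdim⟩
  have : Finite (MaximalSpectrum F) := inferInstance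
  let e := Finite.equivFin (MaximalSpectrum F)
  refine ⟨Nat.card (MaximalSpectrum F), fun i => F ⧸ (e.symm i).asIdeal,
    fun i => Ideal.Quotient.field _, fun i => inferInstance,
    fun i => h.isSeparable_quotient _, ⟨?_⟩⟩
  exact ((IsArtinianRing.equivPi F).restrictScalars K).trans
    (AlgEquiv.piCongrLeft' K (fun m : MaximalSpectrum F => F ⧸ m.asIdeal) e)

end Field

section BaseChange

variable {R S : Type u} [CommRing R] [CommRing S] [Algebra R S]

/-- Every element of `T ⊗[R] S` comes from an étale `T`-algebra. -/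
theorem IsEtaleCoveredFin.isEtaleCovered_baseChange (hS : IsEtaleCoveredFin R S) (T : Type u)
    [CommRing T] [Algebra R T] : IsEtaleCovered T (T ⊗[R] S) := by
  classical
  intro z
  obtain ⟨Tf, hT⟩ := TensorProduct.exists_finset z
  let e : Tf ≃ Fin Tf.card := Tf.equivFin
  obtain ⟨E, i1, i2, i3, φ, hφ⟩ := hS Tf.card (fun i => (e.symm i).1.2)
  choose y hy' using hφ
  have hy : ∀ i, φ (y i) = (e.symm i).1.2 := hy'
  refine ⟨T ⊗[R] E, inferInstance, inferInstance, inferInstance,
    Algebra.TensorProduct.map (AlgHom.id T T) φ, ∑ i, (e.symm i).1.1 ⊗ₜ[R] y i, ?_⟩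
  show (Algebra.TensorProduct.map (AlgHom.id T T) φ) (∑ i, (e.symm i).1.1 ⊗ₜ[R] y i) = z
  rw [map_sum, hT]
  have h1 : ∀ i, (Algebra.TensorProduct.map (AlgHom.id T T) φ) ((e.symm i).1.1 ⊗ₜ[R] y i) =
      (fun t : Tf => t.1.1 ⊗ₜ[R] t.1.2) (e.symm i) := by
    intro i
    rw [Algebra.TensorProduct.map_tmul, AlgHom.id_apply, hy]
  rw [Finset.sum_congr rfl (fun i _ => h1 i), Equiv.sum_comp e.symm
    (fun t : Tf => (t.1.1 ⊗ₜ[R] t.1.2 : T ⊗[R] S))]
  exact Finset.sum_coe_sort Tf (fun i => (i.1 ⊗ₜ[R] i.2 : T ⊗[R] S))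

/-- The fibre rings of a Noetherian algebra are Noetherian. -/
theorem isNoetherianRing_residueField_tensor [IsNoetherianRing S] (p : Ideal R) [p.IsPrime] :
    IsNoetherianRing (p.ResidueField ⊗[R] S) := by
  have h1 : IsNoetherianRing (S ⊗[R] p.ResidueField) :=
    Algebra.EssFiniteType.isNoetherianRing S (S ⊗[R] p.ResidueField)
  exact isNoetherianRing_of_ringEquiv (S ⊗[R] p.ResidueField)
    (Algebra.TensorProduct.comm R S p.ResidueField).toRingEquiv

/-- Fibre rings of a Noetherian `R`-algebra covered by étale algebras are finite products of separable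
algebraic field extensions of the residue field. -/
theorem IsEtaleCoveredFin.exists_fibre_algEquiv_pi [IsNoetherianRing S] (hS : IsEtaleCoveredFin R S)
    (p : Ideal R) [p.IsPrime] :
    ∃ (n : ℕ) (K : Fin n → Type u) (_ : ∀ i, Field (K i)) (_ : ∀ i, Algebra p.ResidueField (K i)),
      (∀ i, Algebra.IsSeparable p.ResidueField (K i)) ∧
      Nonempty ((p.ResidueField ⊗[R] S) ≃ₐ[p.ResidueField] (Π i, K i)) := by
  have := isNoetherianRing_residueField_tensor (S := S) p
  exact (hS.isEtaleCovered_baseChange p.ResidueField).exists_algEquiv_pi_of_field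

end BaseChange

end Groth.Agent.Lib.Helper9
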