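import Groth.Agent.Lib.Helper9.EtaleLift
import Mathlib.RingTheory.Flat.Localization
import Mathlib.RingTheory.Flat.Stability
import Mathlib.RingTheory.Etale.Basic

/-!
# A flat algebra receiving a map from an étale algebra is flat over it

If `E` is étale over `R`, `C` is a flat `R`-algebra and `E → C` is an `R`-algebra map, then `C` is flat
over `E`: indeed `C` is a localization (at an idempotent) of `E ⊗[R] C`, which is flat over `E`.
-/

namespace Groth.Agent.Lib.Helper9

open TensorProduct

universe u

theorem flat_of_etale_of_flat (R E C : Type u) [CommRing R] [CommRing E] [CommRing C]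
    [Algebra R E] [Algebra R C] [Algebra.Etale R E] [Module.Flat R C] [Algebra E C]
    [IsScalarTower R E C] : Module.Flat E C := by
  -- the retraction `s' : C ⊗[R] E → C` of the étale `C`-algebra `C ⊗[R] E`
  let s' : C ⊗[R] E →ₐ[C] C :=
    Algebra.TensorProduct.lift (AlgHom.id C C) (IsScalarTower.toAlgHom R E C)
      (fun _ _ => Commute.all _ _)
  obtain ⟨e', he', hker'⟩ := exists_idempotent_ker_eq_span_of_etale s'
  -- the corresponding map on `E ⊗[R] C`
  let s : E ⊗[R] C →ₐ[E] C :=
    Algebra.TensorProduct.lift (Algebra.ofId E C) (AlgHom.id R C) (fun _ _ => Commute.all _ _)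
  let cm : E ⊗[R] C ≃ₐ[R] C ⊗[R] E := Algebra.TensorProduct.comm R E C
  have hs : ∀ t : E ⊗[R] C, s t = s' (cm t) := by
    intro t
    induction t using TensorProduct.induction_on with
    | zero => simp
    | tmul x c =>
      simp only [s, s', cm, Algebra.TensorProduct.lift_tmul, Algebra.TensorProduct.comm_tmul]
      simp [mul_comm]
    | add a b ha hb => simp only [map_add, ha, hb]
  let e : E ⊗[R] C := cm.symm e'
  have he : IsIdempotentElem e := by
    change cm.symm e' * cm.symm e' = cm.symm e'
    rw [← map_mul, he'.eq]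
  have hker : RingHom.ker s.toRingHom = Ideal.span {e} := by
    ext t
    rw [RingHom.mem_ker]
    change s t = 0 ↔ _
    have hk : s' (cm t) = 0 ↔ cm t ∈ Ideal.span {e'} := by
      rw [← hker', RingHom.mem_ker]
      rfl
    rw [hs, hk, Ideal.mem_span_singleton, Ideal.mem_span_singleton]
    constructor
    · rintro ⟨c, hc⟩
      refine ⟨cm.symm c, ?_⟩
      change t = cm.symm e' * cm.symm c
      rw [← map_mul, ← hc, cm.symm_apply_apply]
    · rintro ⟨c, hc⟩
      refine ⟨cm c, ?_⟩
      rw [hc, map_mul]
      change cm (cm.symm e') * cm c = e' * cm c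
      rw [cm.apply_symm_apply]
  letI : Algebra (E ⊗[R] C) C := s.toRingHom.toAlgebra
  have htower : IsScalarTower E (E ⊗[R] C) C := IsScalarTower.of_algebraMap_eq (fun x => by
    change algebraMap E C x = s (algebraMap E (E ⊗[R] C) x)
    rw [s.commutes])
  have hsurj : Function.Surjective (algebraMap (E ⊗[R] C) C) := by
    intro c
    refine ⟨1 ⊗ₜ c, ?_⟩
    change s (1 ⊗ₜ c) = c
    simp [s]
  have hloc : IsLocalization.Away (1 - e) C := by
    apply IsLocalization.away_of_isIdempotentElem he.one_sub _ hsurj
    rw [sub_sub_cancel]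
    exact hker
  haveI : Module.Flat (E ⊗[R] C) C := IsLocalization.flat C (Submonoid.powers (1 - e))
  exact Module.Flat.trans E (E ⊗[R] C) C

end Groth.Agent.Lib.Helper9
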