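import Groth.Agent.Lib.Helper9.Hens.PairUniversal

/-!
# Étale algebras with trivial residue extension and henselian pairs
-/

namespace Groth.Agent.Lib.Helper9.Hens

universe u

section

variable {R : Type u} [CommRing R] (I : Ideal R) {S : Type u} [CommRing S] [Algebra R S]
  {C : Type u} [CommRing C] [Algebra R C] (J : Ideal C)

/-- If `S = R + IS` and `IC ⊆ J`, any `R`-algebra map `S → C` is determined modulo `J`. -/
theorem mk_algHom_eq_of_surjective
    (hq : ∀ s : S, ∃ r : R, s - algebraMap R S r ∈ I.map (algebraMap R S))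
    (hIJ : I.map (algebraMap R C) ≤ J) (φ : S →ₐ[R] C) (s : S) (r : R)
    (hr : s - algebraMap R S r ∈ I.map (algebraMap R S)) :
    Ideal.Quotient.mk J (φ s) = Ideal.Quotient.mk J (algebraMap R C r) := by
  rw [Ideal.Quotient.eq]
  apply hIJ
  have h1 := Ideal.mem_map_of_mem (φ : S →+* C) hr
  rw [Ideal.map_map] at h1
  have h2 : ((φ : S →+* C).comp (algebraMap R S)) = algebraMap R C := by
    ext a
    exact φ.commutes a
  rw [h2] at h1
  have h3 : (φ : S →+* C) (s - algebraMap R S r) = φ s - algebraMap R C r := by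
    change φ (s - algebraMap R S r) = _
    rw [map_sub, φ.commutes]
  rw [h3] at h1
  exact h1

/-- Uniqueness of maps from an étale algebra with `S = R + IS` to a ring with `IC ⊆ J ⊆ rad`. -/
theorem algHom_subsingleton_of_etale_of_surjective [Algebra.Etale R S]
    (hq : ∀ s : S, ∃ r : R, s - algebraMap R S r ∈ I.map (algebraMap R S))
    (hIJ : I.map (algebraMap R C) ≤ J) (hJ : J ≤ Ideal.jacobson ⊥) (φ₁ φ₂ : S →ₐ[R] C) :
    φ₁ = φ₂ := by
  apply Groth.Agent.Lib.Helper3.algHom_ext_of_comp_mk_eq J hJ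
  ext s
  obtain ⟨r, hr⟩ := hq s
  change Ideal.Quotient.mk J (φ₁ s) = Ideal.Quotient.mk J (φ₂ s)
  rw [mk_algHom_eq_of_surjective I J hq hIJ φ₁ s r hr,
    mk_algHom_eq_of_surjective I J hq hIJ φ₂ s r hr]

/-- Existence of a map from an étale algebra with `R/I ≅ S/IS` to a henselian pair `(C, J)` with
`IC ⊆ J`. -/
theorem exists_algHom_of_etale_of_bijective [Algebra.Etale R S]
    (hq : Function.Bijective
      (Ideal.quotientMap (I.map (algebraMap R S)) (algebraMap R S) Ideal.le_comap_map))
    [HenselianRing C J] (hIJ : I.map (algebraMap R C) ≤ J) : Nonempty (S →ₐ[R] C) := by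
  let e : R ⧸ I ≃+* S ⧸ I.map (algebraMap R S) := RingEquiv.ofBijective _ hq
  let ψ : R ⧸ I →+* C ⧸ J := Ideal.Quotient.lift I ((Ideal.Quotient.mk J).comp (algebraMap R C))
    (fun a ha => by
      rw [RingHom.comp_apply]
      exact Ideal.Quotient.eq_zero_iff_mem.mpr (hIJ (Ideal.mem_map_of_mem _ ha)))
  let τ₀ : S →+* C ⧸ J :=
    ψ.comp ((e.symm : S ⧸ I.map (algebraMap R S) →+* R ⧸ I).comp (Ideal.Quotient.mk _))
  let τ : S →ₐ[R] C ⧸ J :=
    { τ₀ with
      commutes' := fun r => by
        change ψ (e.symm (Ideal.Quotient.mk _ (algebraMap R S r))) = _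
        have h1 : Ideal.Quotient.mk (I.map (algebraMap R S)) (algebraMap R S r) =
            e (Ideal.Quotient.mk I r) := rfl
        rw [h1, e.symm_apply_apply]
        rfl }
  obtain ⟨g, -, -⟩ := Groth.Agent.Lib.Helper3.existsUnique_algHom_lift_of_etale S C J τ
  exact ⟨g⟩

end

section

variable {R : Type u} [CommRing R] {I : Ideal R} {S : Type u} [CommRing S] [Algebra R S]
  [Algebra.Etale R S] {H : Type u} [CommRing H] [Algebra S H] [Algebra R H] [IsScalarTower R S H]

/-- If `R → S` is étale with `R/I ≅ S/IS`, a henselization of `(S, IS)` is a henselization of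
`(R, I)`. -/
theorem isPairHenselization_of_etale_of_bijective
    (hq : Function.Bijective
      (Ideal.quotientMap (I.map (algebraMap R S)) (algebraMap R S) Ideal.le_comap_map))
    (hH : Hens2.IsPairHenselization S (I.map (algebraMap R S)) H) :
    Hens2.IsPairHenselization R I H := by
  have hmap : I.map (algebraMap R H) = (I.map (algebraMap R S)).map (algebraMap S H) := by
    rw [Ideal.map_map, ← IsScalarTower.algebraMap_eq]
  have hq' : ∀ s : S, ∃ r : R, s - algebraMap R S r ∈ I.map (algebraMap R S) :=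
    ((quotientMap_bijective_iff (I := I) (S := S)).mp hq).1
  refine ⟨hmap ▸ hH.1, ?_⟩
  intro C _ J f hC hIJ
  letI : Algebra R C := f.toAlgebra
  have hIJ' : I.map (algebraMap R C) ≤ J := hIJ
  obtain ⟨φ⟩ := exists_algHom_of_etale_of_bijective I J hq hIJ'
  have hφ : (I.map (algebraMap R S)).map (φ : S →+* C) ≤ J := by
    rw [Ideal.map_map]
    have h2 : ((φ : S →+* C).comp (algebraMap R S)) = algebraMap R C := by
      ext a
      exact φ.commutes a
    rw [h2]
    exact hIJ'
  obtain ⟨g, hg, hguniq⟩ := hH.2 C J (φ : S →+* C) hC hφ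
  refine ⟨g, ?_, ?_⟩
  · change g.comp (algebraMap R H) = f
    rw [IsScalarTower.algebraMap_eq R S H, ← RingHom.comp_assoc, hg]
    ext a
    exact φ.commutes a
  · intro g' hg'
    apply hguniq
    let φ' : S →ₐ[R] C :=
      { g'.comp (algebraMap S H) with
        commutes' := fun r => by
          change g' (algebraMap S H (algebraMap R S r)) = f r
          rw [← IsScalarTower.algebraMap_apply R S H]
          exact DFunLike.congr_fun hg' r }
    have h3 : φ' = φ :=
      algHom_subsingleton_of_etale_of_surjective I J hq' hIJ' hC.jac φ' φ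
    change g'.comp (algebraMap S H) = (φ : S →+* C)
    rw [← h3]
    rfl

end

end Groth.Agent.Lib.Helper9.Hens

namespace Groth.Agent.Lib.Helper9.Hens

universe u

section QuotPow

open TensorProduct

variable {A : Type u} [CommRing A] (I : Ideal A) {R : Type u} [CommRing R] [Algebra A R]
  {B : Type u} [CommRing B] [Algebra R B] [Algebra A B] [IsScalarTower A R B]

/-- For a henselization `B` of the pair `(R, IR)` (with `R` an `A`-algebra and `I` an ideal of
`A`), `R/IʳR ≅ B/IʳB` as algebras over `A/Iʳ`. -/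
theorem nonempty_algEquiv_quotient_pow
    (hB : Hens2.IsPairHenselization R (I.map (algebraMap A R)) B) (r : ℕ) :
    Nonempty ((R ⧸ (I ^ r).map (algebraMap A R)) ≃ₐ[A ⧸ I ^ r]
      (B ⧸ (I ^ r).map (algebraMap A B))) := by
  have hmapB : (I ^ r).map (algebraMap A B) =
      ((I.map (algebraMap A R)) ^ r).map (algebraMap R B) := by
    rw [← Ideal.map_pow, Ideal.map_map, ← IsScalarTower.algebraMap_eq]
  have hmapR : (I ^ r).map (algebraMap A R) = (I.map (algebraMap A R)) ^ r := Ideal.map_pow _ _ _
  haveI := flat_of_isPairHenselization hB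
  have hle : (I ^ r).map (algebraMap A R) ≤
      ((I ^ r).map (algebraMap A B)).comap (algebraMap R B) := by
    rw [hmapB, hmapR]
    exact Ideal.le_comap_map
  let Ψ₀ : (R ⧸ (I ^ r).map (algebraMap A R)) →+* (B ⧸ (I ^ r).map (algebraMap A B)) :=
    Ideal.quotientMap _ (algebraMap R B) hle
  let Ψ : (R ⧸ (I ^ r).map (algebraMap A R)) →ₐ[A ⧸ I ^ r] (B ⧸ (I ^ r).map (algebraMap A B)) :=
    { Ψ₀ with
      commutes' := fun x => by
        obtain ⟨a, rfl⟩ := Ideal.Quotient.mk_surjective x
        change Ψ₀ (Ideal.Quotient.mk _ (algebraMap A R a)) =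
          Ideal.Quotient.mk _ (algebraMap A B a)
        rw [IsScalarTower.algebraMap_apply A R B]
        rfl }
  have hΨ : ∀ x : R, Ψ (Ideal.Quotient.mk _ x) = Ideal.Quotient.mk _ (algebraMap R B x) :=
    fun x => rfl
  have hbij : Function.Bijective Ψ := by
    constructor
    · rw [injective_iff_map_eq_zero]
      intro y hy
      obtain ⟨x, rfl⟩ := Ideal.Quotient.mk_surjective y
      rw [hΨ, Ideal.Quotient.eq_zero_iff_mem, hmapB] at hy
      rw [Ideal.Quotient.eq_zero_iff_mem, hmapR]
      exact mem_pow_of_algebraMap_mem_map_pow (I.map (algebraMap A R))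
        (exists_sub_mem_map_of_isPairHenselization hB)
        (mem_of_algebraMap_mem_map_of_isPairHenselization hB) r x hy
    · intro y
      obtain ⟨b, rfl⟩ := Ideal.Quotient.mk_surjective y
      obtain ⟨x, hx⟩ := exists_sub_mem_map_pow (I.map (algebraMap A R))
        (exists_sub_mem_map_of_isPairHenselization hB) r b
      refine ⟨Ideal.Quotient.mk _ x, ?_⟩
      rw [hΨ, eq_comm, Ideal.Quotient.eq, hmapB]
      exact hx
  exact ⟨AlgEquiv.ofBijective Ψ hbij⟩

theorem etale_quotient_pow [Algebra.Etale A R]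
    (hB : Hens2.IsPairHenselization R (I.map (algebraMap A R)) B) (r : ℕ) :
    Algebra.Etale (A ⧸ I ^ r) (B ⧸ (I ^ r).map (algebraMap A B)) := by
  obtain ⟨e⟩ := nonempty_algEquiv_quotient_pow I hB r
  haveI : Algebra.Etale (A ⧸ I ^ r) (R ⧸ (I ^ r).map (algebraMap A R)) :=
    Algebra.Etale.of_equiv (Algebra.TensorProduct.quotIdealMapEquivQuotTensor R (I ^ r)).symm
  exact Algebra.Etale.of_equiv e

theorem smooth_quotient_pow [Algebra.Smooth A R]
    (hB : Hens2.IsPairHenselization R (I.map (algebraMap A R)) B) (r : ℕ) :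
    Algebra.Smooth (A ⧸ I ^ r) (B ⧸ (I ^ r).map (algebraMap A B)) := by
  obtain ⟨e⟩ := nonempty_algEquiv_quotient_pow I hB r
  haveI : Algebra.Smooth (A ⧸ I ^ r) (R ⧸ (I ^ r).map (algebraMap A R)) :=
    Algebra.Smooth.of_equiv (Algebra.TensorProduct.quotIdealMapEquivQuotTensor R (I ^ r)).symm
  exact Algebra.Smooth.of_equiv e

theorem flat_of_flat_of_isPairHenselization [Module.Flat A R]
    (hB : Hens2.IsPairHenselization R (I.map (algebraMap A R)) B) : Module.Flat A B := by
  haveI := flat_of_isPairHenselization hB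
  exact Module.Flat.trans A R B

end QuotPow

end Groth.Agent.Lib.Helper9.Hens
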