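import Groth.Agent.Lib.Helper9.Hens.PairEtale
import Groth.Agent.Lib.Helper9.EtaleLift

/-!
# A henselization of a pair as a colimit of étale neighbourhoods with trivial residue extension
-/

namespace Groth.Agent.Lib.Helper9.Hens

universe u

section

variable {A : Type u} [CommRing A] {I : Ideal A}

/-- Any `A`-algebra map `A' → A/I` sends `w` to the class of `a` when `w ≡ a` mod `IA'`. -/
theorem algHom_quotient_apply_eq {A' : Type u} [CommRing A'] [Algebra A A'] (σ : A' →ₐ[A] A ⧸ I)
    (w : A') (a : A) (h : w - algebraMap A A' a ∈ I.map (algebraMap A A')) :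
    σ w = Ideal.Quotient.mk I a := by
  have h1 : σ (w - algebraMap A A' a) = 0 := by
    have h2 := Ideal.mem_map_of_mem (σ : A' →+* A ⧸ I) h
    rw [Ideal.map_map] at h2
    have h3 : ((σ : A' →+* A ⧸ I).comp (algebraMap A A')) = Ideal.Quotient.mk I := by
      ext x
      exact σ.commutes x
    rw [h3, Ideal.map_quotient_self] at h2
    exact h2
  rw [map_sub, sub_eq_zero, σ.commutes] at h1
  exact h1

variable {B : Type u} [CommRing B] [Algebra A B] (hB : Hens2.IsPairHenselization A I B)

include hB

/-- Étale algebras with trivial residue extension map uniquely to a henselization of the pair. -/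
theorem nonempty_unique_algHom_of_etale_of_bijective (A' : Type u) [CommRing A'] [Algebra A A']
    [Algebra.Etale A A']
    (hq : Function.Bijective
      (Ideal.quotientMap (I.map (algebraMap A A')) (algebraMap A A') Ideal.le_comap_map)) :
    Nonempty (Unique (A' →ₐ[A] B)) := by
  haveI := hB.1
  obtain ⟨φ⟩ := exists_algHom_of_etale_of_bijective I (I.map (algebraMap A B)) hq le_rfl
  have hq' : ∀ s : A', ∃ r : A, s - algebraMap A A' r ∈ I.map (algebraMap A A') :=
    ((quotientMap_bijective_iff (I := I) (S := A')).mp hq).1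
  exact ⟨{ default := φ
           uniq := fun ψ => algHom_subsingleton_of_etale_of_surjective I
             (I.map (algebraMap A B)) hq' le_rfl hB.1.jac ψ φ }⟩

/-- Every element of a henselization of the pair comes from an étale algebra with trivial residue
extension. -/
theorem exists_etale_bijective_algHom_apply_eq (x : B) :
    ∃ (A' : Type u) (_ : CommRing A') (_ : Algebra A A') (_ : Algebra.Etale A A'),
      Function.Bijective
        (Ideal.quotientMap (I.map (algebraMap A A')) (algebraMap A A') Ideal.le_comap_map) ∧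
      ∃ (φ : A' →ₐ[A] B) (s : A'), φ s = x := by
  let e := algEquivPairHens hB
  obtain ⟨N, y, hy⟩ := PairHens.exists_rep (e x)
  obtain ⟨A', _, _, _, ι', hbij, hι'⟩ := exists_etale_lift I N.σ
  have hq : Function.Bijective
      (Ideal.quotientMap (I.map (algebraMap A A')) (algebraMap A A') Ideal.le_comap_map) := hbij
  have hq' : ∀ s : A', ∃ r : A, s - algebraMap A A' r ∈ I.map (algebraMap A A') :=
    ((quotientMap_bijective_iff (I := I) (S := A')).mp hq).1
  obtain ⟨⟨⟨φ⟩, -⟩⟩ := nonempty_unique_algHom_of_etale_of_bijective hB A' hq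
  refine ⟨A', inferInstance, inferInstance, inferInstance, hq, φ, ι' y, ?_⟩
  -- the point of `A'`
  let σ₂ : A' →ₐ[A] A ⧸ I := (PairHens.residue.comp (e : B →ₐ[A] PairHens A I)).comp φ
  have hσ₂ : σ₂.comp ι' = N.σ := by
    ext z
    obtain ⟨a, ha⟩ := Ideal.Quotient.mk_surjective (N.σ z)
    have h1 := hι' z
    rw [← ha] at h1
    have h2 : ι' z - algebraMap A A' a ∈ I.map (algebraMap A A') := by
      rw [← Ideal.Quotient.eq]
      exact h1
    rw [AlgHom.comp_apply, algHom_quotient_apply_eq σ₂ (ι' z) a h2, ha]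
  let N₂ := EtNbhd.of A' σ₂
  let g : N ⟶ N₂ := EtNbhd.homOf N A' σ₂ ι' hσ₂
  -- two maps `A' → PairHens A I` agree
  have h3 : ((e : B →ₐ[A] PairHens A I).comp φ) =
      (PairHens.ιₐ N₂).comp (EtNbhd.ofEquiv A' σ₂).toAlgHom :=
    algHom_subsingleton_of_etale_of_surjective I (I.map (algebraMap A (PairHens A I))) hq' le_rfl
      PairHens.map_le_jacobson _ _
  have h4 : e (φ (ι' y)) = PairHens.ι N₂ (EtNbhd.ofEquiv A' σ₂ (ι' y)) :=
    DFunLike.congr_fun h3 (ι' y)
  have h5 : PairHens.ι N₂ (g.1 y) = PairHens.ι N y := PairHens.ι_comp g y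
  rw [EtNbhd.homOf_apply] at h5
  rw [h5, hy] at h4
  exact e.injective h4

/-- An element of such an étale algebra killed in the henselization is killed in a further such
étale algebra. -/
theorem exists_etale_bijective_algHom_apply_eq_zero (A' : Type u) [CommRing A'] [Algebra A A']
    [Algebra.Etale A A']
    (hq : Function.Bijective
      (Ideal.quotientMap (I.map (algebraMap A A')) (algebraMap A A') Ideal.le_comap_map))
    (φ : A' →ₐ[A] B) (s : A') (hs : φ s = 0) :
    ∃ (A'' : Type u) (_ : CommRing A'') (_ : Algebra A A'') (_ : Algebra.Etale A A''),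
      Function.Bijective
        (Ideal.quotientMap (I.map (algebraMap A A'')) (algebraMap A A'') Ideal.le_comap_map) ∧
      ∃ ψ : A' →ₐ[A] A'', ψ s = 0 := by
  let e := algEquivPairHens hB
  have hq' : ∀ s : A', ∃ r : A, s - algebraMap A A' r ∈ I.map (algebraMap A A') :=
    ((quotientMap_bijective_iff (I := I) (S := A')).mp hq).1
  let σ₂ : A' →ₐ[A] A ⧸ I := (PairHens.residue.comp (e : B →ₐ[A] PairHens A I)).comp φ
  let N₂ := EtNbhd.of A' σ₂
  have h3 : ((e : B →ₐ[A] PairHens A I).comp φ) =
      (PairHens.ιₐ N₂).comp (EtNbhd.ofEquiv A' σ₂).toAlgHom :=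
    algHom_subsingleton_of_etale_of_surjective I (I.map (algebraMap A (PairHens A I))) hq' le_rfl
      PairHens.map_le_jacobson _ _
  have h4 : PairHens.ι N₂ (EtNbhd.ofEquiv A' σ₂ s) = PairHens.ι N₂ 0 := by
    have := DFunLike.congr_fun h3 s
    rw [AlgHom.comp_apply, hs] at this
    rw [map_zero]
    exact this.symm.trans (map_zero _)
  obtain ⟨N₃, f, hf⟩ := (PairHens.ι_eq_iff _ _).mp h4
  rw [map_zero] at hf
  obtain ⟨A'', _, _, _, ι'', hbij, -⟩ := exists_etale_lift I N₃.σ
  refine ⟨A'', inferInstance, inferInstance, inferInstance, hbij,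
    (ι''.comp f.1).comp (EtNbhd.ofEquiv A' σ₂).toAlgHom, ?_⟩
  change ι'' (f.1 (EtNbhd.ofEquiv A' σ₂ s)) = 0
  rw [hf, map_zero]

end

end Groth.Agent.Lib.Helper9.Hens
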