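import Groth.Agent.Lib.Helper9.Hens.PairColimit
import Groth.Agent.Lib.Helper3.HenselianMap

/-!
# Henselization of a pair: quotients, étale neighbourhoods, finite families (helper9)

* `isPairHenselization_quotient`: if `H` is a henselization of `(Q, J)` then `H/KH` is a
  henselization of `(Q/K, J(Q/K))`.
* `surjective_and_ker_eq_of_isPairHenselization`: for a surjection `π : Q → R`, the canonical map
  from a henselization of `(Q, J)` to a henselization of `(R, JR)` is surjective with kernel `ker π · H`.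
* `isPairHenselization_of_etale_of_bijective'`: a henselization of `(Q, J)` is a henselization of
  `(E, JE)` for every étale `Q`-algebra `E` with `Q/J ≅ E/JE` mapping to it.
* `exists_etale_bijective_algHom_apply_eq_fin`: finitely many elements of a henselization come from a
  common étale algebra with trivial residue extension.
-/

set_option autoImplicit false

namespace Groth.Agent.Lib.Helper9.Hens

universe u

section Quotient

variable {Q : Type u} [CommRing Q] {J : Ideal Q} {H : Type u} [CommRing H] [Algebra Q H]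

/-- The quotient of a henselization is a henselization of the quotient. -/
theorem isPairHenselization_quotient (hH : Hens2.IsPairHenselization Q J H) (K : Ideal Q) :
    Hens2.IsPairHenselization (Q ⧸ K) (J.map (Ideal.Quotient.mk K))
      (H ⧸ K.map (algebraMap Q H)) := by
  have hcomp : (algebraMap (Q ⧸ K) (H ⧸ K.map (algebraMap Q H))).comp (Ideal.Quotient.mk K) =
      (Ideal.Quotient.mk (K.map (algebraMap Q H))).comp (algebraMap Q H) := by
    ext x; rfl
  have hmap : (J.map (Ideal.Quotient.mk K)).map (algebraMap (Q ⧸ K) (H ⧸ K.map (algebraMap Q H))) =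
      (J.map (algebraMap Q H)).map (Ideal.Quotient.mk (K.map (algebraMap Q H))) := by
    rw [Ideal.map_map, Ideal.map_map, hcomp]
  refine ⟨?_, ?_⟩
  · rw [hmap]
    haveI := hH.1
    exact Groth.Agent.Lib.Helper3.henselianRing_of_surjective _ Ideal.Quotient.mk_surjective _
  · intro C _ L g hC hL
    have hL' : J.map (g.comp (Ideal.Quotient.mk K)) ≤ L := by
      rw [← Ideal.map_map]; exact hL
    obtain ⟨ψ, hψ, hψuniq⟩ := hH.2 C L (g.comp (Ideal.Quotient.mk K)) hC hL'
    have hψ' : ∀ x, ψ (algebraMap Q H x) = g (Ideal.Quotient.mk K x) :=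
      fun x => DFunLike.congr_fun hψ x
    have hkill : ∀ a ∈ K.map (algebraMap Q H), ψ a = 0 := by
      intro a ha
      have h1 : K.map (algebraMap Q H) ≤ RingHom.ker ψ := by
        rw [Ideal.map_le_iff_le_comap]
        intro k hk
        rw [Ideal.mem_comap, RingHom.mem_ker, hψ', Ideal.Quotient.eq_zero_iff_mem.mpr hk, map_zero]
      exact h1 ha
    refine ⟨Ideal.Quotient.lift _ ψ hkill, ?_, ?_⟩
    · show (Ideal.Quotient.lift _ ψ hkill).comp
        (algebraMap (Q ⧸ K) (H ⧸ K.map (algebraMap Q H))) = g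
      apply Ideal.Quotient.ringHom_ext
      ext x
      change Ideal.Quotient.lift _ ψ hkill (Ideal.Quotient.mk _ (algebraMap Q H x)) = _
      rw [Ideal.Quotient.lift_mk, hψ']
      rfl
    · intro ψ'' hψ''
      have hψ'' : ψ''.comp (algebraMap (Q ⧸ K) (H ⧸ K.map (algebraMap Q H))) = g := hψ''
      apply Ideal.Quotient.ringHom_ext
      have h2 : ψ''.comp (Ideal.Quotient.mk (K.map (algebraMap Q H))) = ψ := by
        apply hψuniq
        rw [RingHom.comp_assoc, ← hcomp, ← RingHom.comp_assoc, hψ'']
      rw [h2]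
      ext x
      exact (Ideal.Quotient.lift_mk _ ψ hkill).symm

/-- For a surjection `π : Q → R`, the canonical map from a henselization `H` of `(Q, J)` to a
henselization `B` of `(R, JR)` is surjective with kernel `(ker π) H`. -/
theorem surjective_and_ker_eq_of_isPairHenselization (hH : Hens2.IsPairHenselization Q J H)
    {R : Type u} [CommRing R] (π : Q →+* R) (hπ : Function.Surjective π)
    {B : Type u} [CommRing B] [Algebra R B] (hB : Hens2.IsPairHenselization R (J.map π) B)
    (φ₀ : H →+* B) (hφ₀ : φ₀.comp (algebraMap Q H) = (algebraMap R B).comp π) :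
    Function.Surjective φ₀ ∧ RingHom.ker φ₀ = (RingHom.ker π).map (algebraMap Q H) := by
  set K := RingHom.ker π with hK
  set KH := K.map (algebraMap Q H) with hKH
  let q : H →+* H ⧸ KH := Ideal.Quotient.mk KH
  have hφ₀' : ∀ x, φ₀ (algebraMap Q H x) = algebraMap R B (π x) := fun x => DFunLike.congr_fun hφ₀ x
  have hkill : ∀ a ∈ KH, φ₀ a = 0 := by
    intro a ha
    have h1 : KH ≤ RingHom.ker φ₀ := by
      rw [hKH, Ideal.map_le_iff_le_comap]
      intro k hk
      rw [Ideal.mem_comap, RingHom.mem_ker, hφ₀', (RingHom.mem_ker).mp hk, map_zero]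
    exact h1 ha
  let φ' : H ⧸ KH →+* B := Ideal.Quotient.lift KH φ₀ hkill
  have hφ'q : φ'.comp q = φ₀ := by ext x; exact Ideal.Quotient.lift_mk KH φ₀ hkill
  -- the map `R → H/KH`
  have hker : RingHom.ker π ≤ RingHom.ker (q.comp (algebraMap Q H)) := by
    intro k hk
    rw [RingHom.mem_ker, RingHom.comp_apply]
    exact Ideal.Quotient.eq_zero_iff_mem.mpr (Ideal.mem_map_of_mem _ hk)
  let ρ : R →+* H ⧸ KH := RingHom.liftOfSurjective π hπ ⟨q.comp (algebraMap Q H), hker⟩
  have hρ : ρ.comp π = q.comp (algebraMap Q H) := RingHom.liftOfSurjective_comp π hπ _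
  have hHq : HenselianRing (H ⧸ KH) ((J.map (algebraMap Q H)).map q) := by
    haveI := hH.1
    exact Groth.Agent.Lib.Helper3.henselianRing_of_surjective q Ideal.Quotient.mk_surjective _
  have hρJ : (J.map π).map ρ ≤ (J.map (algebraMap Q H)).map q := by
    rw [Ideal.map_map, Ideal.map_map, hρ]
  obtain ⟨θ, hθ, -⟩ := hB.2 (H ⧸ KH) _ ρ hHq hρJ
  -- `φ' ∘ θ = id`
  have hφ'ρ : φ'.comp ρ = algebraMap R B := by
    apply RingHom.cancel_right hπ |>.mp
    rw [RingHom.comp_assoc, hρ, ← RingHom.comp_assoc, hφ'q, hφ₀]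
  obtain ⟨i₁, -, hi₁⟩ := hB.2 B _ (algebraMap R B) hB.1 le_rfl
  have e1 : φ'.comp θ = RingHom.id B := by
    have a1 : φ'.comp θ = i₁ := hi₁ _ (by
      show (φ'.comp θ).comp (algebraMap R B) = algebraMap R B
      rw [RingHom.comp_assoc, hθ, hφ'ρ])
    have a2 : RingHom.id B = i₁ := hi₁ _ (RingHom.id_comp _)
    rw [a1, a2]
  -- `θ ∘ φ' = id`
  have hqJ : J.map (q.comp (algebraMap Q H)) ≤ (J.map (algebraMap Q H)).map q := by
    rw [Ideal.map_map]
  obtain ⟨i₂, -, hi₂⟩ := hH.2 (H ⧸ KH) _ (q.comp (algebraMap Q H)) hHq hqJ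
  have e2 : θ.comp φ' = RingHom.id (H ⧸ KH) := by
    have a1 : (θ.comp φ').comp q = i₂ := hi₂ _ (by
      show ((θ.comp φ').comp q).comp (algebraMap Q H) = q.comp (algebraMap Q H)
      apply RingHom.ext; intro x
      show θ (φ' (q (algebraMap Q H x))) = q (algebraMap Q H x)
      have h1 : φ' (q (algebraMap Q H x)) = φ₀ (algebraMap Q H x) := DFunLike.congr_fun hφ'q _
      rw [h1, hφ₀']
      have h2 : θ (algebraMap R B (π x)) = ρ (π x) := DFunLike.congr_fun hθ _
      rw [h2]
      exact DFunLike.congr_fun hρ x)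
    have a2 : q = i₂ := hi₂ _ rfl
    apply RingHom.cancel_right Ideal.Quotient.mk_surjective |>.mp
    change (θ.comp φ').comp q = (RingHom.id _).comp q
    rw [a1, RingHom.id_comp, ← a2]
  have hinj : Function.Injective φ' := by
    intro x y hxy
    have := congrArg θ hxy
    have hx := DFunLike.congr_fun e2 x
    have hy := DFunLike.congr_fun e2 y
    rw [RingHom.comp_apply, RingHom.id_apply] at hx hy
    rw [← hx, ← hy, this]
  have hsurj : Function.Surjective φ' := by
    intro b
    exact ⟨θ b, DFunLike.congr_fun e1 b⟩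
  refine ⟨?_, ?_⟩
  · rw [← hφ'q]
    exact hsurj.comp Ideal.Quotient.mk_surjective
  · ext a
    rw [RingHom.mem_ker, ← hφ'q, RingHom.comp_apply]
    constructor
    · intro h
      have : q a = 0 := hinj (by rw [h, map_zero])
      exact Ideal.Quotient.eq_zero_iff_mem.mp this
    · intro h
      rw [show q a = 0 from Ideal.Quotient.eq_zero_iff_mem.mpr h, map_zero]

end Quotient

section Etale

variable {Q : Type u} [CommRing Q] {J : Ideal Q} {P : Type u} [CommRing P] [Algebra Q P]
  {E : Type u} [CommRing E] [Algebra Q E] [Algebra.Etale Q E] [Algebra E P] [IsScalarTower Q E P]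

/-- A henselization of `(Q, J)` is a henselization of `(E, JE)` for every étale `Q`-algebra `E`
with `Q/J ≅ E/JE` mapping to it. -/
theorem isPairHenselization_of_etale_of_bijective' (hP : Hens2.IsPairHenselization Q J P)
    (hq : Function.Bijective
      (Ideal.quotientMap (J.map (algebraMap Q E)) (algebraMap Q E) Ideal.le_comap_map)) :
    Hens2.IsPairHenselization E (J.map (algebraMap Q E)) P := by
  have hmap : (J.map (algebraMap Q E)).map (algebraMap E P) = J.map (algebraMap Q P) := by
    rw [Ideal.map_map, ← IsScalarTower.algebraMap_eq]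
  have hq' : ∀ s : E, ∃ r : Q, s - algebraMap Q E r ∈ J.map (algebraMap Q E) :=
    ((quotientMap_bijective_iff (I := J) (S := E)).mp hq).1
  refine ⟨hmap ▸ hP.1, ?_⟩
  intro C _ L g hC hL
  have hL' : J.map (g.comp (algebraMap Q E)) ≤ L := by
    rw [← Ideal.map_map]; exact hL
  obtain ⟨ψ, hψ, hψuniq⟩ := hP.2 C L (g.comp (algebraMap Q E)) hC hL'
  letI : Algebra Q C := (g.comp (algebraMap Q E)).toAlgebra
  have hJC : J.map (algebraMap Q C) ≤ L := hL'
  refine ⟨ψ, ?_, ?_⟩
  · let φ₁ : E →ₐ[Q] C :=
      { ψ.comp (algebraMap E P) with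
        commutes' := fun r => by
          change ψ (algebraMap E P (algebraMap Q E r)) = g (algebraMap Q E r)
          rw [← IsScalarTower.algebraMap_apply Q E P]
          exact DFunLike.congr_fun hψ r }
    let φ₂ : E →ₐ[Q] C := { g with commutes' := fun r => rfl }
    have h := algHom_subsingleton_of_etale_of_surjective J L hq' hJC hC.jac φ₁ φ₂
    ext x
    exact DFunLike.congr_fun h x
  · intro ψ' hψ'
    apply hψuniq
    rw [IsScalarTower.algebraMap_eq Q E P, ← RingHom.comp_assoc, hψ']

end Etale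

section Fin

variable {A : Type u} [CommRing A] {I : Ideal A} {B : Type u} [CommRing B] [Algebra A B]
  (hB : Hens2.IsPairHenselization A I B)

include hB

/-- Finitely many elements of a henselization of the pair come from a common étale algebra with
trivial residue extension. -/
theorem exists_etale_bijective_algHom_apply_eq_fin {κ : Type*} [Finite κ] (x : κ → B) :
    ∃ (A' : Type u) (_ : CommRing A') (_ : Algebra A A') (_ : Algebra.Etale A A'),
      Function.Bijective
        (Ideal.quotientMap (I.map (algebraMap A A')) (algebraMap A A') Ideal.le_comap_map) ∧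
      ∃ (φ : A' →ₐ[A] B) (s : κ → A'), ∀ i, φ (s i) = x i := by
  let e := algEquivPairHens hB
  obtain ⟨N, y, hy⟩ := PairHens.exists_common_fun (fun i => e (x i))
  obtain ⟨A', _, _, _, ι', hbij, hι'⟩ := exists_etale_lift I N.σ
  have hq : Function.Bijective
      (Ideal.quotientMap (I.map (algebraMap A A')) (algebraMap A A') Ideal.le_comap_map) := hbij
  have hq' : ∀ s : A', ∃ r : A, s - algebraMap A A' r ∈ I.map (algebraMap A A') :=
    ((quotientMap_bijective_iff (I := I) (S := A')).mp hq).1
  obtain ⟨⟨⟨φ⟩, -⟩⟩ := nonempty_unique_algHom_of_etale_of_bijective hB A' hq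
  refine ⟨A', inferInstance, inferInstance, inferInstance, hq, φ, fun i => ι' (y i), ?_⟩
  let σ₂ : A' →ₐ[A] A ⧸ I := (PairHens.residue.comp (e : B →ₐ[A] PairHens A I)).comp φ
  have hσ₂ : σ₂.comp ι' = N.σ := by
    ext z
    obtain ⟨a, ha⟩ := Ideal.Quotient.mk_surjective (N.σ z)
    have h1 := hι' z
    rw [← ha] at h1
    have h2 : ι' z - algebraMap A A' a ∈ I.map (algebraMap A A') := by
      rw [← Ideal.Quotient.eq]
      exact h1
    rw [AlgHom.comp_apply, algHom_quotient_apply_eq σ₂ (ι' z) a h2, ha]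
  let N₂ := EtNbhd.of A' σ₂
  let g : N ⟶ N₂ := EtNbhd.homOf N A' σ₂ ι' hσ₂
  have h3 : ((e : B →ₐ[A] PairHens A I).comp φ) =
      (PairHens.ιₐ N₂).comp (EtNbhd.ofEquiv A' σ₂).toAlgHom :=
    algHom_subsingleton_of_etale_of_surjective I (I.map (algebraMap A (PairHens A I))) hq' le_rfl
      PairHens.map_le_jacobson _ _
  intro i
  have h4 : e (φ (ι' (y i))) = PairHens.ι N₂ (EtNbhd.ofEquiv A' σ₂ (ι' (y i))) :=
    DFunLike.congr_fun h3 (ι' (y i))
  have h5 : PairHens.ι N₂ (g.1 (y i)) = PairHens.ι N (y i) := PairHens.ι_comp g (y i)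
  rw [EtNbhd.homOf_apply] at h5
  rw [h5, hy] at h4
  exact e.injective h4

end Fin

end Groth.Agent.Lib.Helper9.Hens
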