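import Groth.Agent.Lib.Helper9.Hens.Residue
import Groth.Agent.Lib.Helper9.HensK.IndEtale

/-!
# `PairHens A I` is ind-étale over `A` (in the `Under`-category form of `EtPBC.IsIndEtale`)
-/

namespace Groth.Agent.Lib.Helper9.Hens

open CategoryTheory Limits

universe u

variable {A : Type u} [CommRing A] {I : Ideal A}

/-- The diagram of pointed étale algebras, as a diagram under `A`. -/
noncomputable def EtNbhd.underFunctor : EtNbhd A I ⥤ Under (CommRingCat.of A) where
  obj N := Under.mk (CommRingCat.ofHom (algebraMap A N.S))
  map f := Under.homMk (CommRingCat.ofHom f.1.toRingHom) (by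
    ext a
    exact f.1.commutes a)
  map_id _ := rfl
  map_comp _ _ := rfl

namespace PairHens

/-- The colimit cocone under `A`. -/
noncomputable def underCocone : Cocone (EtNbhd.underFunctor (A := A) (I := I)) where
  pt := Under.mk (CommRingCat.ofHom (algebraMap A (PairHens A I)))
  ι :=
    { app := fun N => Under.homMk (CommRingCat.ofHom (ι N)) (by
        ext a
        exact ι_algebraMap N a)
      naturality := fun N₁ N₂ f => by
        ext x
        exact ι_comp f x }

/-- The legs of a cocone under `A`, as ring homomorphisms out of the stages. -/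
noncomputable def leg (s : Cocone (EtNbhd.underFunctor (A := A) (I := I))) (N : EtNbhd A I) :
    N.S →+* s.pt.right :=
  (s.ι.app N).right.hom

theorem cocone_compat (s : Cocone (EtNbhd.underFunctor (A := A) (I := I))) (N₁ N₂ : EtNbhd A I)
    (f : N₁ ⟶ N₂) (x : N₁.S) : leg s N₂ (f.1 x) = leg s N₁ x := by
  have h := s.w f
  have h2 := congrArg (fun φ => φ.right.hom x) h
  exact h2

/-- The cocone is a colimit cocone. -/
noncomputable def underIsColimit : IsColimit (underCocone (A := A) (I := I)) where
  desc s := Under.homMk
    (CommRingCat.ofHom (desc (leg s) (cocone_compat s))) (by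
      ext a
      change desc (leg s) (cocone_compat s)
        (algebraMap A (PairHens A I) a) = s.pt.hom.hom a
      rw [← ι_algebraMap (EtNbhd.base A I) a, desc_ι]
      have h := Under.w (s.ι.app (EtNbhd.base A I))
      exact congrArg (fun φ => φ.hom a) h)
  fac s N := by
    ext x
    exact desc_ι (leg s) (cocone_compat s) N x
  uniq s m hm := by
    ext x
    obtain ⟨N, y, rfl⟩ := exists_rep x
    change m.right.hom (ι N y) = desc (leg s) (cocone_compat s) (ι N y)
    rw [desc_ι]
    have h := hm N
    exact congrArg (fun φ => φ.right.hom y) h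

theorem isIndEtale : EtPBC.IsIndEtale A (PairHens A I) :=
  ⟨EtNbhd A I, inferInstance, inferInstance, EtNbhd.underFunctor, underCocone, underIsColimit,
    fun N => Groth.Agent.Lib.Helper9.HensK.etale_toAlgebra (A := A) (S := N.S), ⟨Iso.refl _⟩⟩

end PairHens

end Groth.Agent.Lib.Helper9.Hens
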