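import Groth.Agent.Lib.Helper9.Hens.PairBaseChange
import Groth.Agent.Lib.Helper3.IdemBij
import Groth.Agent.Lib.Helper9.Henselian

/-!
# Henselization of a pair commutes with integral base change (helper9)

* `isPairHenselization_self`: a henselian pair is its own henselization.
* `isPairHenselization_of_radical_eq`: the henselization of a pair only depends on the radical of
  the ideal.
* `isPairHenselization_tensor_of_isIntegral`: if `Ah` is a henselization of `(A, I)` and `B` is
  integral over `A` then `Ah ⊗[A] B` is a henselization of `(B, IB)`.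
* `bijective_of_isPairHenselization`: a ring map between two henselizations of the same pair which is
  compatible with the structure maps is bijective.
-/

set_option autoImplicit false

namespace Groth.Agent.Lib.Helper9.Hens

open TensorProduct

universe u

/-- A henselian pair is its own henselization. -/
theorem isPairHenselization_self (C : Type u) [CommRing C] (L : Ideal C) (hC : HenselianRing C L) :
    Hens2.IsPairHenselization C L C := by
  refine ⟨?_, ?_⟩
  · rw [Algebra.algebraMap_self, Ideal.map_id]; exact hC
  · intro D _ K f _ _
    refine ⟨f, ?_, ?_⟩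
    · show f.comp (algebraMap C C) = f
      rw [Algebra.algebraMap_self, RingHom.comp_id]
    · intro g hg
      have hg' : g.comp (algebraMap C C) = f := hg
      rw [← hg', Algebra.algebraMap_self, RingHom.comp_id]

theorem radical_map_eq_of_radical_eq {B T : Type*} [CommRing B] [CommRing T] (f : B →+* T)
    {J J' : Ideal B} (hrad : J.radical = J'.radical) :
    (J.map f).radical = (J'.map f).radical := by
  have key : ∀ K K' : Ideal B, K.radical = K'.radical → (K.map f).radical ≤ (K'.map f).radical := by
    intro K K' h
    rw [Ideal.radical_le_radical_iff]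
    calc K.map f ≤ K.radical.map f := Ideal.map_mono Ideal.le_radical
      _ = K'.radical.map f := by rw [h]
      _ ≤ (K'.map f).radical := Ideal.map_radical_le f
  exact le_antisymm (key J J' hrad) (key J' J hrad.symm)

/-- The henselization of a pair only depends on the radical of the ideal. -/
theorem isPairHenselization_of_radical_eq {B : Type u} [CommRing B] {J J' : Ideal B}
    (hrad : J.radical = J'.radical) {T : Type u} [CommRing T] [Algebra B T]
    (h : Hens2.IsPairHenselization B J T) : Hens2.IsPairHenselization B J' T := by
  refine ⟨(henselianRing_iff_of_radical_eq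
    (radical_map_eq_of_radical_eq (algebraMap B T) hrad)).mp h.1, ?_⟩
  intro C _ L f hC hL
  have hC' : HenselianRing C L.radical := henselianRing_radical hC
  have hL' : J.map f ≤ L.radical := by
    calc J.map f ≤ J.radical.map f := Ideal.map_mono Ideal.le_radical
      _ = J'.radical.map f := by rw [hrad]
      _ ≤ (J'.map f).radical := Ideal.map_radical_le f
      _ ≤ L.radical := Ideal.radical_mono hL
  exact h.2 C L.radical f hC' hL'

/-- A ring map between two henselizations of the same pair which is compatible with the structure
maps is bijective. -/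
theorem bijective_of_isPairHenselization {B : Type u} [CommRing B] {J : Ideal B}
    {T T' : Type u} [CommRing T] [CommRing T'] [Algebra B T] [Algebra B T']
    (h : Hens2.IsPairHenselization B J T) (h' : Hens2.IsPairHenselization B J T')
    (Φ : T →+* T') (hΦ : Φ.comp (algebraMap B T) = algebraMap B T') : Function.Bijective Φ := by
  obtain ⟨g', hg', -⟩ := h'.2 T (J.map (algebraMap B T)) (algebraMap B T) h.1 le_rfl
  obtain ⟨i₁, -, hi₁⟩ := h.2 T (J.map (algebraMap B T)) (algebraMap B T) h.1 le_rfl
  obtain ⟨i₂, -, hi₂⟩ := h'.2 T' (J.map (algebraMap B T')) (algebraMap B T') h'.1 le_rfl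
  have e1 : g'.comp Φ = RingHom.id T := by
    have h1 : g'.comp Φ = i₁ := hi₁ _ (by
      show (g'.comp Φ).comp (algebraMap B T) = algebraMap B T
      rw [RingHom.comp_assoc, hΦ, hg'])
    have h2 : RingHom.id T = i₁ := hi₁ _ (by
      show (RingHom.id T).comp (algebraMap B T) = algebraMap B T
      rw [RingHom.id_comp])
    rw [h1, h2]
  have e2 : Φ.comp g' = RingHom.id T' := by
    have h1 : Φ.comp g' = i₂ := hi₂ _ (by
      show (Φ.comp g').comp (algebraMap B T') = algebraMap B T'
      rw [RingHom.comp_assoc, hg', hΦ])
    have h2 : RingHom.id T' = i₂ := hi₂ _ (by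
      show (RingHom.id T').comp (algebraMap B T') = algebraMap B T'
      rw [RingHom.id_comp])
    rw [h1, h2]
  refine ⟨?_, ?_⟩
  · intro x y hxy
    have := congrArg g' hxy
    have hx : g' (Φ x) = x := DFunLike.congr_fun e1 x
    have hy : g' (Φ y) = y := DFunLike.congr_fun e1 y
    rw [hx, hy] at this
    exact this
  · intro y
    exact ⟨g' y, DFunLike.congr_fun e2 y⟩

section Integral

variable {A B Ah : Type u} [CommRing A] [CommRing B] [CommRing Ah] [Algebra A B] {I : Ideal A}
  [Algebra.IsIntegral A B] [Algebra A Ah] (hA : Hens2.IsPairHenselization A I Ah)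

attribute [local instance] Algebra.TensorProduct.rightAlgebra

include hA in
/-- If `Ah` is a henselization of `(A, I)` and `B` is integral over `A` then `Ah ⊗[A] B` is a
henselization of `(B, IB)`. -/
theorem isPairHenselization_tensor_of_isIntegral :
    Hens2.IsPairHenselization B (I.map (algebraMap A B)) (Ah ⊗[A] B) := by
  haveI : HenselianRing Ah (I.map (algebraMap A Ah)) := hA.1
  have h1 : HenselianRing (Ah ⊗[A] B)
      ((I.map (algebraMap A Ah)).map (algebraMap Ah (Ah ⊗[A] B))) :=
    Groth.Agent.Lib.Helper3.henselianRing_map_of_isIntegral (I.map (algebraMap A Ah)) (Ah ⊗[A] B)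
  have h2 : (I.map (algebraMap A Ah)).map (algebraMap Ah (Ah ⊗[A] B)) =
      I.map (algebraMap A (Ah ⊗[A] B)) := by
    rw [Ideal.map_map, ← IsScalarTower.algebraMap_eq]
  rw [h2] at h1
  have h3 := isPairHenselization_self (Ah ⊗[A] B) _ h1
  exact isPairHenselization_of_tensor hA (S' := B) (C := Ah ⊗[A] B) rfl h3

end Integral

end Groth.Agent.Lib.Helper9.Hens
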