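import Groth.Agent.Lib.Helper9.Hens.NoetherianHens
import Groth.Agent.Lib.Helper9.Hens.Dimension
import Groth.Agent.Lib.Helper45.WeakAssFlat
import Mathlib.RingTheory.Ideal.AssociatedPrime.Localization
import Mathlib.RingTheory.Ideal.AssociatedPrime.Finiteness
import Mathlib.RingTheory.Ideal.GoingDown

/-!
# Associated primes along flat maps with discrete fibres (helper9)

For a flat map `R → S` of Noetherian rings, associated primes of `S` contract to associated primes
of `R`; if moreover there are no strict inclusions among the primes of `S` over a given prime of `R`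
(e.g. `S` a henselization or strict henselization of `R`), a prime of `S` is associated iff its
contraction is.
-/

set_option autoImplicit false

namespace Groth.Agent.Lib.Helper9

open TensorProduct Groth.Agent.Lib.Helper45

universe u

section

variable {R S : Type u} [CommRing R] [CommRing S] [Algebra R S] [Module.Flat R S]

/-- Flatness: if `a z = 0` in `S` with `a ∈ R`, then `z ∈ Ann_R(a) S`. -/
theorem mem_map_annEl_of_mul_eq_zero (a : R) (z : S) (h : algebraMap R S a * z = 0) :
    z ∈ (annEl R a).map (algebraMap R S) := by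
  rw [← annEl_one_tmul_of_flat (B := S) (M := R) a, mem_annEl, TensorProduct.smul_tmul',
    smul_eq_mul, mul_one]
  have h1 : z ⊗ₜ[R] a = (a • z) ⊗ₜ[R] (1 : R) := by
    rw [TensorProduct.smul_tmul, smul_eq_mul, mul_one]
  rw [h1, Algebra.smul_def, h, zero_tmul]

variable [IsNoetherianRing R] [IsNoetherianRing S]

/-- Associated primes of a flat Noetherian algebra contract to associated primes. -/
theorem comap_mem_associatedPrimes_of_flat {P : Ideal S} (hP : P ∈ associatedPrimes S S) :
    P.comap (algebraMap R S) ∈ associatedPrimes R R := by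
  classical
  obtain ⟨hPprime, z, hz⟩ := (isAssociatedPrime_iff).mp hP
  have hzmem : ∀ s : S, s ∈ P ↔ s * z = 0 := by
    intro s
    rw [hz, Submodule.mem_colon_singleton, Submodule.mem_bot, smul_eq_mul]
  set p := P.comap (algebraMap R S) with hp
  have : p.IsPrime := Ideal.comap_isPrime _ _
  by_contra hnot
  have hmax : IsLocalRing.maximalIdeal (Localization.AtPrime p) ∉
      associatedPrimes (Localization.AtPrime p) (Localization.AtPrime p) := by
    intro h
    apply hnot
    have h1 := Module.associatedPrimes.comap_mem_associatedPrimes_of_mem_associatedPrimes_of_isLocalizedModule_of_fg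
      p.primeCompl (Algebra.linearMap R (Localization.AtPrime p)) _ h
      ((isNoetherianRing_iff_ideal_fg R).mp inferInstance _)
    have h2 : Ideal.comap (algebraMap R (Localization.AtPrime p))
        (IsLocalRing.maximalIdeal (Localization.AtPrime p)) = p :=
      Localization.AtPrime.under_maximalIdeal
    rwa [h2] at h1
  -- prime avoidance: a non-zero-divisor in the maximal ideal of `R_p`
  have hex : ∃ x ∈ IsLocalRing.maximalIdeal (Localization.AtPrime p),
      x ∈ nonZeroDivisors (Localization.AtPrime p) := by
    by_contra hcon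
    push Not at hcon
    have hsub : ((IsLocalRing.maximalIdeal (Localization.AtPrime p) :
        Ideal (Localization.AtPrime p)) : Set (Localization.AtPrime p)) ⊆
        ⋃ q ∈ associatedPrimes (Localization.AtPrime p) (Localization.AtPrime p),
          ((id q : Ideal (Localization.AtPrime p)) : Set (Localization.AtPrime p)) := by
      have := biUnion_associatedPrimes_eq_compl_nonZeroDivisors (Localization.AtPrime p)
      simp only [id]
      rw [this]
      intro x hx
      exact hcon x hx
    obtain ⟨Q, hQ, hle⟩ := (Ideal.subset_union_prime_finite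
      (associatedPrimes.finite (Localization.AtPrime p) (Localization.AtPrime p)) (f := id) 0 0
      (fun _ h _ _ => h.1)).mp hsub
    have hQprime : Q.IsPrime := hQ.1
    have hQle : Q ≤ IsLocalRing.maximalIdeal (Localization.AtPrime p) :=
      IsLocalRing.le_maximalIdeal hQprime.ne_top
    have : Q = IsLocalRing.maximalIdeal (Localization.AtPrime p) := le_antisymm hQle hle
    exact hmax (this ▸ hQ)
  obtain ⟨x, hxm, hxreg⟩ := hex
  obtain ⟨a, s, rfl⟩ := IsLocalization.exists_mk'_eq p.primeCompl x
  have hap : a ∈ p := by
    by_contra hna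
    have hu : IsUnit (IsLocalization.mk' (Localization.AtPrime p) a s) := by
      have h1 : IsUnit (algebraMap R (Localization.AtPrime p) a) :=
        IsLocalization.map_units _ (⟨a, hna⟩ : p.primeCompl)
      have h2 : IsLocalization.mk' (Localization.AtPrime p) a s * algebraMap R _ (s : R) =
          algebraMap R _ a := IsLocalization.mk'_spec _ _ _
      exact isUnit_of_mul_isUnit_left (h2 ▸ h1)
    exact (IsLocalRing.mem_maximalIdeal _).mp hxm hu
  have hareg : algebraMap R (Localization.AtPrime p) a ∈ nonZeroDivisors (Localization.AtPrime p) := by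
    rw [← IsLocalization.mk'_spec (Localization.AtPrime p) a s]
    exact mul_mem hxreg (IsUnit.mem_nonZeroDivisors (IsLocalization.map_units _ s))
  -- every element of `Ann_R(a)` is killed by an element outside `p`
  have hkill : ∀ k ∈ annEl R a, ∃ t : R, t ∉ p ∧ t * k = 0 := by
    intro k hk
    have hk' : k * a = 0 := by
      have := mem_annEl.mp hk
      rwa [smul_eq_mul] at this
    have h1 : algebraMap R (Localization.AtPrime p) k * algebraMap R _ a = 0 := by
      rw [← map_mul, hk', map_zero]
    have h2 : algebraMap R (Localization.AtPrime p) k = 0 :=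
      (mul_right_mem_nonZeroDivisors_eq_zero_iff hareg).mp h1
    obtain ⟨t, ht⟩ := (IsLocalization.map_eq_zero_iff p.primeCompl _ k).mp h2
    exact ⟨t, t.2, ht⟩
  have hz0 : algebraMap R S a * z = 0 := (hzmem _).mp hap
  have hzK := mem_map_annEl_of_mul_eq_zero a z hz0
  have hspan : ∀ w ∈ (annEl R a).map (algebraMap R S), ∃ t : R, t ∉ p ∧ algebraMap R S t * w = 0 := by
    intro w hw
    refine Submodule.span_induction (p := fun w _ => ∃ t : R, t ∉ p ∧ algebraMap R S t * w = 0)
      ?_ ?_ ?_ ?_ hw
    · rintro _ ⟨k, hk, rfl⟩
      obtain ⟨t, htp, htk⟩ := hkill k hk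
      exact ⟨t, htp, by rw [← map_mul, htk, map_zero]⟩
    · exact ⟨1, fun h => ‹p.IsPrime›.ne_top ((Ideal.eq_top_iff_one p).mpr h), by rw [mul_zero]⟩
    · rintro w₁ w₂ _ _ ⟨t₁, ht₁, h₁⟩ ⟨t₂, ht₂, h₂⟩
      refine ⟨t₁ * t₂, fun h => (‹p.IsPrime›.mem_or_mem h).elim ht₁ ht₂, ?_⟩
      rw [map_mul, mul_add]
      have e1 : algebraMap R S t₁ * algebraMap R S t₂ * w₁ = algebraMap R S t₂ * (algebraMap R S t₁ * w₁) := by
        ring
      rw [e1, h₁, mul_zero, mul_assoc, h₂, mul_zero, add_zero]
    · rintro c w _ ⟨t, ht, h⟩
      refine ⟨t, ht, ?_⟩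
      rw [smul_eq_mul, mul_left_comm, h, mul_zero]
  obtain ⟨t, htp, htz⟩ := hspan z hzK
  exact htp ((hzmem _).mpr htz)

/-- If there are no strict inclusions among primes of `S` over a given prime of `R`, a prime whose
contraction is associated is associated. -/
theorem mem_associatedPrimes_of_comap_mem
    (hS : ∀ P Q : Ideal S, P.IsPrime → Q.IsPrime → P < Q → P.under R < Q.under R)
    {P : Ideal S} [P.IsPrime] (hp : P.comap (algebraMap R S) ∈ associatedPrimes R R) :
    P ∈ associatedPrimes S S := by
  obtain ⟨hpprime, x, hx⟩ := (isAssociatedPrime_iff).mp hp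
  set p := P.comap (algebraMap R S) with hpdef
  have hxmem : ∀ r : R, r ∈ p ↔ r * x = 0 := by
    intro r
    rw [hx, Submodule.mem_colon_singleton, Submodule.mem_bot, smul_eq_mul]
  have hann : annEl R x = p := by
    ext r
    rw [mem_annEl, hxmem, smul_eq_mul]
  -- annihilator of the image of `x`
  have hannS : annEl S (algebraMap R S x) = p.map (algebraMap R S) := by
    apply le_antisymm
    · intro s hs
      rw [← hann]
      apply mem_map_annEl_of_mul_eq_zero
      have := mem_annEl.mp hs
      rwa [smul_eq_mul, mul_comm] at this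
    · rw [Ideal.map_le_iff_le_comap]
      intro r hr
      rw [Ideal.mem_comap, mem_annEl, smul_eq_mul, ← map_mul, (hxmem r).mp hr, map_zero]
  -- `P` is minimal over `pS`
  have hle : p.map (algebraMap R S) ≤ P := Ideal.map_le_iff_le_comap.mpr le_rfl
  obtain ⟨P₀, hP₀, hP₀le⟩ := Ideal.exists_minimalPrimes_le hle
  have hP₀prime : P₀.IsPrime := hP₀.1.1
  have hP₀p : P₀.comap (algebraMap R S) = p := by
    have hle' : p ≤ P₀.comap (algebraMap R S) := Ideal.map_le_iff_le_comap.mp hP₀.1.2
    by_contra hne
    have hlt : p < P₀.under R := lt_of_le_of_ne hle' (fun h => hne h.symm)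
    obtain ⟨P', hP'le, hP'prime, hP'over⟩ :=
      Algebra.HasGoingDown.exists_ideal_le_liesOver_of_lt (p := p) P₀ hlt
    have hP'p : p.map (algebraMap R S) ≤ P' := by
      rw [Ideal.map_le_iff_le_comap, ← Ideal.under_def, ← hP'over.over]
    have hPP' : P₀ ≤ P' := hP₀.2 ⟨hP'prime, hP'p⟩ hP'le
    have hPeq : P₀ = P' := le_antisymm hPP' hP'le
    apply hne
    rw [hPeq, ← Ideal.under_def, ← hP'over.over]
  have heq : P₀ = P := by
    by_contra hne
    have hlt : P₀ < P := lt_of_le_of_ne hP₀le hne
    have := hS P₀ P hP₀prime inferInstance hlt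
    rw [Ideal.under_def, Ideal.under_def, hP₀p] at this
    exact lt_irrefl _ this
  have hPmin : P ∈ (annEl S (algebraMap R S x)).minimalPrimes := by
    rw [hannS, ← heq]; exact hP₀
  have h1 : P ∈ associatedPrimes S (Submodule.span S {algebraMap R S x}) :=
    (Module.associatedPrimes.minimalPrimes_annihilator_subset_associatedPrimes S
      (Submodule.span S {algebraMap R S x})) hPmin
  exact associatedPrimes.subset_of_injective (f := Submodule.subtype _)
    (Submodule.injective_subtype _) h1

end

end Groth.Agent.Lib.Helper9
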