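import Groth.Agent.Lib.Helper9.Hens.Reduced

/-!
# Flat base change of the strict henselization model and reducedness (helper9)

For a flat reduced `A`-algebra `A'`, the ring `A' ⊗[A] PtColim A K` is reduced: it is the filtered
colimit of the étale `A'`-algebras `A' ⊗[A] N.S`.
-/

set_option autoImplicit false

namespace Groth.Agent.Lib.Helper9.HensK

open CategoryTheory TensorProduct

universe u

variable {A : Type u} [CommRing A] {K : Type u} [CommRing K] [Algebra A K]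
variable (A' : Type u) [CommRing A'] [Algebra A A']

namespace PtColim

/-- The base change of the structure maps of the colimit. -/
noncomputable def Tι (N : PtEt A K) : A' ⊗[A] N.S →ₐ[A'] A' ⊗[A] PtColim A K :=
  Algebra.TensorProduct.map (AlgHom.id A' A') (ιₐ N)

/-- The base change of the transition maps. -/
noncomputable def Tmap {N N' : PtEt A K} (f : N ⟶ N') : A' ⊗[A] N.S →ₐ[A'] A' ⊗[A] N'.S :=
  Algebra.TensorProduct.map (AlgHom.id A' A') f.1

@[simp] theorem Tι_tmul (N : PtEt A K) (a : A') (x : N.S) : Tι A' N (a ⊗ₜ x) = a ⊗ₜ ι N x := by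
  simp [Tι]

@[simp] theorem Tmap_tmul {N N' : PtEt A K} (f : N ⟶ N') (a : A') (x : N.S) :
    Tmap A' f (a ⊗ₜ x) = a ⊗ₜ f.1 x := by
  simp [Tmap]

theorem Tι_Tmap {N N' : PtEt A K} (f : N ⟶ N') (y : A' ⊗[A] N.S) :
    Tι A' N' (Tmap A' f y) = Tι A' N y := by
  have h : (Tι A' N').comp (Tmap A' f) = Tι A' N := by
    apply Algebra.TensorProduct.ext'
    intro a b
    rw [AlgHom.comp_apply, Tmap_tmul, Tι_tmul, Tι_tmul, ι_comp]
  exact DFunLike.congr_fun h y

theorem Tmap_comp {N₁ N₂ N₃ : PtEt A K} (f : N₁ ⟶ N₂) (g : N₂ ⟶ N₃) (y : A' ⊗[A] N₁.S) :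
    Tmap A' (f ≫ g) y = Tmap A' g (Tmap A' f y) := by
  have h : Tmap A' (f ≫ g) = (Tmap A' g).comp (Tmap A' f) := by
    apply Algebra.TensorProduct.ext'
    intro a b
    rw [AlgHom.comp_apply, Tmap_tmul, Tmap_tmul, Tmap_tmul, PtEt.comp_val, AlgHom.comp_apply]
  exact DFunLike.congr_fun h y

theorem exists_Tι_eq (t : A' ⊗[A] PtColim A K) :
    ∃ (N : PtEt A K) (y : A' ⊗[A] N.S), Tι A' N y = t := by
  induction t using TensorProduct.induction_on with
  | zero => exact ⟨Classical.arbitrary _, 0, map_zero _⟩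
  | tmul a p =>
    obtain ⟨N, e, rfl⟩ := exists_rep p
    exact ⟨N, a ⊗ₜ e, Tι_tmul A' N a e⟩
  | add t₁ t₂ h₁ h₂ =>
    obtain ⟨N₁, y₁, rfl⟩ := h₁
    obtain ⟨N₂, y₂, rfl⟩ := h₂
    refine ⟨IsFiltered.max N₁ N₂, Tmap A' (IsFiltered.leftToMax N₁ N₂) y₁ +
      Tmap A' (IsFiltered.rightToMax N₁ N₂) y₂, ?_⟩
    rw [map_add, Tι_Tmap, Tι_Tmap]

theorem exists_Tmap_lTensor_ker_eq_zero {N : PtEt A K}
    (w : A' ⊗[A] LinearMap.ker (ιₐ N).toLinearMap) :
    ∃ (N' : PtEt A K) (f : N ⟶ N'),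
      Tmap A' f ((LinearMap.ker (ιₐ N).toLinearMap).subtype.lTensor A' w) = 0 := by
  induction w using TensorProduct.induction_on with
  | zero => exact ⟨N, 𝟙 N, by rw [map_zero, map_zero]⟩
  | tmul a z =>
    obtain ⟨z, hz⟩ := z
    have hz' : ι N z = ι N 0 := by
      rw [map_zero]
      exact hz
    obtain ⟨N', f, hf⟩ := (ι_eq_iff z 0).mp hz'
    refine ⟨N', f, ?_⟩
    rw [LinearMap.lTensor_tmul, Submodule.subtype_apply, Tmap_tmul, hf, map_zero, tmul_zero]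
  | add w₁ w₂ h₁ h₂ =>
    obtain ⟨N₁, f₁, hf₁⟩ := h₁
    obtain ⟨N₂, f₂, hf₂⟩ := h₂
    obtain ⟨N₃, g₁, g₂, hg⟩ := IsFiltered.span f₁ f₂
    refine ⟨N₃, f₁ ≫ g₁, ?_⟩
    rw [map_add, map_add]
    nth_rewrite 2 [hg]
    rw [Tmap_comp, Tmap_comp, hf₁, hf₂, map_zero, map_zero, add_zero]

theorem exists_Tmap_eq_zero [Module.Flat A A'] {N : PtEt A K} (y : A' ⊗[A] N.S)
    (hy : Tι A' N y = 0) : ∃ (N' : PtEt A K) (f : N ⟶ N'), Tmap A' f y = 0 := by
  have hex : Function.Exact (LinearMap.ker (ιₐ N).toLinearMap).subtype (ιₐ N).toLinearMap :=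
    LinearMap.exact_subtype_ker_map _
  have hex' := Module.Flat.lTensor_exact A' hex
  have hTι : ∀ z : A' ⊗[A] N.S, (ιₐ N).toLinearMap.lTensor A' z = Tι A' N z := by
    intro z
    induction z using TensorProduct.induction_on with
    | zero => rw [map_zero, map_zero]
    | tmul a x => rw [LinearMap.lTensor_tmul, Tι_tmul]; rfl
    | add z₁ z₂ h₁ h₂ => rw [map_add, map_add, h₁, h₂]
  have hy' : (ιₐ N).toLinearMap.lTensor A' y = 0 := by rw [hTι, hy]
  obtain ⟨w, rfl⟩ := (hex' y).mp hy'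
  exact exists_Tmap_lTensor_ker_eq_zero A' w

/-- A flat reduced base change of `PtColim A K` is reduced. -/
theorem isReduced_tensor [Module.Flat A A'] [IsReduced A'] :
    IsReduced (A' ⊗[A] PtColim A K) := by
  constructor
  intro t ht
  obtain ⟨n, hn⟩ := ht
  obtain ⟨N, y, rfl⟩ := exists_Tι_eq A' t
  rw [← map_pow] at hn
  obtain ⟨N', f, hf⟩ := exists_Tmap_eq_zero A' (y ^ n) hn
  rw [map_pow] at hf
  haveI : IsReduced (A' ⊗[A] N'.S) := Groth.Agent.Lib.Helper54.isReduced_of_etale A' _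
  have h0 : Tmap A' f y = 0 := IsNilpotent.eq_zero ⟨n, hf⟩
  rw [← Tι_Tmap A' f, h0, map_zero]

end PtColim

end Groth.Agent.Lib.Helper9.HensK
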