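import Mathlib.RingTheory.Etale.Basic
import Mathlib.RingTheory.Unramified.Finite
import Mathlib.RingTheory.FiniteType
import Mathlib.Algebra.Category.Ring.FilteredColimits
import Mathlib.CategoryTheory.Limits.ConcreteCategory.Basic
import Mathlib.CategoryTheory.Filtered.Basic

/-!
# The category of pointed étale algebras over a pair `(A, I)`

Objects: étale `A`-algebras `S` (presented as quotients of polynomial rings, so that the category is
small) together with an `A`-algebra map `σ : S → A ⧸ I`. Morphisms: `A`-algebra maps compatible with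
the `σ`s. This category is filtered; its colimit is the henselization of the pair `(A, I)`.
-/

namespace Groth.Agent.Lib.Helper9.Hens

open CategoryTheory TensorProduct

universe u

variable (A : Type u) [CommRing A] (I : Ideal A)

/-- A pointed étale algebra over the pair `(A, I)`, in small form. -/
structure EtNbhd : Type u where
  /-- number of variables -/
  n : ℕ
  /-- the ideal of relations -/
  K : Ideal (MvPolynomial (Fin n) A)
  etale' : Algebra.Etale A (MvPolynomial (Fin n) A ⧸ K)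
  /-- the point -/
  σ' : (MvPolynomial (Fin n) A ⧸ K) →ₐ[A] A ⧸ I

variable {A I}

/-- The underlying algebra of a pointed étale algebra. -/
def EtNbhd.S (N : EtNbhd A I) : Type u := MvPolynomial (Fin N.n) A ⧸ N.K

noncomputable instance (N : EtNbhd A I) : CommRing N.S :=
  inferInstanceAs (CommRing (MvPolynomial (Fin N.n) A ⧸ N.K))

noncomputable instance (N : EtNbhd A I) : Algebra A N.S :=
  inferInstanceAs (Algebra A (MvPolynomial (Fin N.n) A ⧸ N.K))

instance (N : EtNbhd A I) : Algebra.Etale A N.S := N.etale'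

/-- The point of a pointed étale algebra. -/
def EtNbhd.σ (N : EtNbhd A I) : N.S →ₐ[A] A ⧸ I := N.σ'

/-- Morphisms of pointed étale algebras. -/
def EtNbhd.Hom (N₁ N₂ : EtNbhd A I) : Type u := {f : N₁.S →ₐ[A] N₂.S // N₂.σ.comp f = N₁.σ}

noncomputable instance : Category.{u} (EtNbhd A I) where
  Hom N₁ N₂ := EtNbhd.Hom N₁ N₂
  id N := ⟨AlgHom.id A N.S, AlgHom.comp_id _⟩
  comp f g := ⟨g.1.comp f.1, by rw [← AlgHom.comp_assoc, g.2, f.2]⟩
  id_comp f := Subtype.ext (AlgHom.comp_id _)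
  comp_id f := Subtype.ext (AlgHom.id_comp _)
  assoc f g h := Subtype.ext rfl

@[ext]
theorem EtNbhd.hom_ext {N₁ N₂ : EtNbhd A I} (f g : N₁ ⟶ N₂) (h : f.1 = g.1) : f = g :=
  Subtype.ext h

@[simp]
theorem EtNbhd.comp_val {N₁ N₂ N₃ : EtNbhd A I} (f : N₁ ⟶ N₂) (g : N₂ ⟶ N₃) :
    (f ≫ g).1 = g.1.comp f.1 := rfl

@[simp]
theorem EtNbhd.id_val (N : EtNbhd A I) : (𝟙 N : N ⟶ N).1 = AlgHom.id A N.S := rfl

theorem EtNbhd.Hom.σ_apply {N₁ N₂ : EtNbhd A I} (f : N₁ ⟶ N₂) (x : N₁.S) :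
    N₂.σ (f.1 x) = N₁.σ x := DFunLike.congr_fun f.2 x

/-- Every pointed étale algebra is isomorphic to one in small form. -/
theorem EtNbhd.exists_of (S : Type u) [CommRing S] [Algebra A S] [Algebra.Etale A S]
    (σ : S →ₐ[A] A ⧸ I) :
    ∃ (N : EtNbhd A I) (e : S ≃ₐ[A] N.S), N.σ.comp e.toAlgHom = σ := by
  obtain ⟨n, f, hf⟩ := Algebra.FiniteType.iff_quotient_mvPolynomial''.mp
    (inferInstance : Algebra.FiniteType A S)
  let e : (MvPolynomial (Fin n) A ⧸ RingHom.ker f.toRingHom) ≃ₐ[A] S :=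
    Ideal.quotientKerAlgEquivOfSurjective hf
  exact ⟨⟨n, RingHom.ker f.toRingHom, Algebra.Etale.of_equiv e.symm, σ.comp e.toAlgHom⟩,
    e.symm, by ext x; exact congrArg σ (e.apply_symm_apply x)⟩

/-- A choice of small form of a pointed étale algebra. -/
noncomputable def EtNbhd.of (S : Type u) [CommRing S] [Algebra A S] [Algebra.Etale A S]
    (σ : S →ₐ[A] A ⧸ I) : EtNbhd A I := (EtNbhd.exists_of S σ).choose

/-- The comparison isomorphism for `EtNbhd.of`. -/
noncomputable def EtNbhd.ofEquiv (S : Type u) [CommRing S] [Algebra A S] [Algebra.Etale A S]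
    (σ : S →ₐ[A] A ⧸ I) : S ≃ₐ[A] (EtNbhd.of S σ).S := (EtNbhd.exists_of S σ).choose_spec.choose

theorem EtNbhd.of_σ_comp (S : Type u) [CommRing S] [Algebra A S] [Algebra.Etale A S]
    (σ : S →ₐ[A] A ⧸ I) : (EtNbhd.of S σ).σ.comp (EtNbhd.ofEquiv S σ).toAlgHom = σ :=
  (EtNbhd.exists_of S σ).choose_spec.choose_spec

theorem EtNbhd.of_σ_apply (S : Type u) [CommRing S] [Algebra A S] [Algebra.Etale A S]
    (σ : S →ₐ[A] A ⧸ I) (x : S) : (EtNbhd.of S σ).σ (EtNbhd.ofEquiv S σ x) = σ x :=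
  DFunLike.congr_fun (EtNbhd.of_σ_comp S σ) x

/-- A map from an object into `EtNbhd.of S σ` induced by an algebra map into `S`. -/
noncomputable def EtNbhd.homOf (N : EtNbhd A I) (S : Type u) [CommRing S] [Algebra A S]
    [Algebra.Etale A S] (σ : S →ₐ[A] A ⧸ I) (f : N.S →ₐ[A] S) (hf : σ.comp f = N.σ) :
    N ⟶ EtNbhd.of S σ :=
  ⟨(EtNbhd.ofEquiv S σ).toAlgHom.comp f, by
    rw [← AlgHom.comp_assoc, EtNbhd.of_σ_comp, hf]⟩

@[simp]
theorem EtNbhd.homOf_apply (N : EtNbhd A I) (S : Type u) [CommRing S] [Algebra A S]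
    [Algebra.Etale A S] (σ : S →ₐ[A] A ⧸ I) (f : N.S →ₐ[A] S) (hf : σ.comp f = N.σ) (x : N.S) :
    (EtNbhd.homOf N S σ f hf).1 x = EtNbhd.ofEquiv S σ (f x) := rfl

attribute [irreducible] EtNbhd.S

end Groth.Agent.Lib.Helper9.Hens
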