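import Groth.Agent.Lib.Helper9.Hens.NoetherianHens

/-!
# Modules over (ind-)étale algebras: flatness over the base implies flatness over the algebra

* `flat_of_etale_of_flat_module`: if `E` is étale over `R` and `M` is an `E`-module which is flat over
  `R`, then `M` is flat over `E` (it is a direct summand of `E ⊗[R] M`).
* `IsEtaleCoveredFin.flat_module`: the same over an `R`-algebra covered by étale algebras, e.g. a
  henselization or a strict henselization.
-/

set_option autoImplicit false

namespace Groth.Agent.Lib.Helper9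

open TensorProduct

universe u

theorem flat_of_etale_of_flat_module (R E M : Type u) [CommRing R] [CommRing E] [Algebra R E]
    [Algebra.Etale R E] [AddCommGroup M] [Module R M] [Module E M] [IsScalarTower R E M]
    [Module.Flat R M] : Module.Flat E M := by
  -- the multiplication map and its idempotent
  let s' : E ⊗[R] E →ₐ[E] E :=
    Algebra.TensorProduct.lift (AlgHom.id E E) (AlgHom.id R E) (fun _ _ => Commute.all _ _)
  have hs' : ∀ a b : E, s' (a ⊗ₜ b) = a * b := by
    intro a b
    simp [s']
  obtain ⟨e', he', hker'⟩ := exists_idempotent_ker_eq_span_of_etale s'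
  have he'0 : s' e' = 0 := by
    have : e' ∈ RingHom.ker s'.toRingHom := by
      rw [hker']
      exact Ideal.subset_span rfl
    exact this
  have hε1 : s' (1 - e') = 1 := by rw [map_sub, map_one, he'0, sub_zero]
  have hεker : ∀ t : E ⊗[R] E, s' t = 0 → (1 - e') * t = 0 := by
    intro t ht
    have : t ∈ RingHom.ker s'.toRingHom := ht
    rw [hker', Ideal.mem_span_singleton] at this
    obtain ⟨c, rfl⟩ := this
    rw [← mul_assoc, sub_mul, one_mul, he'.eq, sub_self, zero_mul]
  -- the action of `E ⊗ E` on maps `M → E ⊗ M`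
  let Φ : E ⊗[R] E →ₗ[R] (M →ₗ[R] E ⊗[R] M) :=
    TensorProduct.lift (LinearMap.mk₂ R
      (fun (a b : E) => (TensorProduct.mk R E M a).comp (Algebra.lsmul R R M b : M →ₗ[R] M))
      (fun a₁ a₂ b => by ext m; simp [add_tmul])
      (fun c a b => by ext m; simp [smul_tmul'])
      (fun a b₁ b₂ => by ext m; simp [add_smul, tmul_add])
      (fun c a b => by ext m; simp [tmul_smul]))
  have hΦ : ∀ (a b : E) (m : M), Φ (a ⊗ₜ b) m = a ⊗ₜ (b • m) := by
    intro a b m
    simp [Φ]
  have F1 : ∀ (t : E ⊗[R] E) (m : M),
      (LinearMap.id : M →ₗ[R] M).liftBaseChange E (Φ t m) = s' t • m := by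
    intro t m
    induction t using TensorProduct.induction_on with
    | zero => simp
    | tmul a b => rw [hΦ, LinearMap.liftBaseChange_tmul, hs', LinearMap.id_apply, mul_smul]
    | add t₁ t₂ h₁ h₂ => rw [map_add, LinearMap.add_apply, map_add, h₁, h₂, map_add, add_smul]
  have F2 : ∀ (t : E ⊗[R] E) (e : E) (m : M), Φ ((e ⊗ₜ 1) * t) m = e • Φ t m := by
    intro t e m
    induction t using TensorProduct.induction_on with
    | zero => simp
    | tmul a b =>
      rw [Algebra.TensorProduct.tmul_mul_tmul, hΦ, hΦ, one_mul, smul_tmul', smul_eq_mul]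
    | add t₁ t₂ h₁ h₂ =>
      rw [mul_add, map_add, LinearMap.add_apply, h₁, h₂, map_add, LinearMap.add_apply, smul_add]
  have F3 : ∀ (t : E ⊗[R] E) (e : E) (m : M), Φ ((1 ⊗ₜ e) * t) m = Φ t (e • m) := by
    intro t e m
    induction t using TensorProduct.induction_on with
    | zero => simp
    | tmul a b =>
      rw [Algebra.TensorProduct.tmul_mul_tmul, hΦ, hΦ, one_mul, mul_comm, mul_smul]
    | add t₁ t₂ h₁ h₂ =>
      rw [mul_add, map_add, LinearMap.add_apply, h₁, h₂, map_add, LinearMap.add_apply]
  have hcomm : ∀ e : E, (e ⊗ₜ 1) * (1 - e') = ((1 : E) ⊗ₜ[R] e) * (1 - e') := by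
    intro e
    have h0 : s' (e ⊗ₜ 1 - 1 ⊗ₜ e) = 0 := by
      rw [map_sub, hs', hs', mul_one, one_mul, sub_self]
    have h1 := hεker _ h0
    rw [mul_sub, sub_eq_zero] at h1
    rw [mul_comm, h1, mul_comm]
  let i : M →ₗ[E] E ⊗[R] M :=
    { toFun := fun m => Φ (1 - e') m
      map_add' := fun m₁ m₂ => map_add _ _ _
      map_smul' := fun e m => by
        change Φ (1 - e') (e • m) = e • Φ (1 - e') m
        rw [← F3, ← F2, hcomm] }
  have h : ((LinearMap.id : M →ₗ[R] M).liftBaseChange E).comp i = LinearMap.id := by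
    ext m
    change (LinearMap.id : M →ₗ[R] M).liftBaseChange E (Φ (1 - e') m) = m
    rw [F1, hε1, one_smul]
  exact Module.Flat.of_retract i _ h

/-- If `S` is covered by étale `R`-algebras, every `S`-module which is flat over `R` is flat over
`S`. -/
theorem IsEtaleCoveredFin.flat_module {R S : Type u} [CommRing R] [CommRing S] [Algebra R S]
    (hS : IsEtaleCoveredFin R S) (M : Type u) [AddCommGroup M]
    [Module R M] [Module S M] [IsScalarTower R S M] [Module.Flat R M] : Module.Flat S M := by
  apply Module.Flat.of_forall_isTrivialRelation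
  intro l f x hfx
  obtain ⟨E, _, _, _, φ, hφ⟩ := hS l f
  choose e he' using hφ
  have he : ∀ i, φ (e i) = f i := he'
  letI : Module E M := Module.compHom M φ.toRingHom
  have hsmul : ∀ (a : E) (m : M), a • m = φ a • m := fun a m => rfl
  have htower : IsScalarTower R E M := ⟨fun r a m => by
    rw [hsmul, hsmul, map_smul, smul_assoc]⟩
  haveI : Module.Flat E M := flat_of_etale_of_flat_module R E M
  have hrel : ∑ i, e i • x i = 0 := by
    rw [← hfx]
    exact Finset.sum_congr rfl (fun i _ => by rw [hsmul, he])
  obtain ⟨k, a, y, hxy, hay⟩ := Module.Flat.isTrivialRelation_of_sum_smul_eq_zero hrel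
  refine ⟨k, fun i j => φ (a i j), y, fun i => ?_, fun j => ?_⟩
  · rw [hxy i]
    exact Finset.sum_congr rfl (fun j _ => hsmul _ _)
  · have := congrArg φ (hay j)
    rw [map_sum, map_zero] at this
    rw [← this]
    exact Finset.sum_congr rfl (fun i _ => by rw [map_mul, he])

end Groth.Agent.Lib.Helper9
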