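import Groth.Agent.Lib.Helper9.Hens.Cat
import Mathlib.RingTheory.Localization.Away.Basic

/-!
# The category of pointed étale algebras is filtered
-/

namespace Groth.Agent.Lib.Helper9.Hens

open CategoryTheory TensorProduct

universe u

variable {A : Type u} [CommRing A] {I : Ideal A}

theorem EtNbhd.exists_cocone_objs (X Y : EtNbhd A I) :
    ∃ (Z : EtNbhd A I) (_ : X ⟶ Z) (_ : Y ⟶ Z), True := by
  have : Algebra.Etale A (X.S ⊗[A] Y.S) := Algebra.Etale.comp A X.S (X.S ⊗[A] Y.S)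
  let σ : X.S ⊗[A] Y.S →ₐ[A] A ⧸ I := Algebra.TensorProduct.productMap X.σ Y.σ
  have h1 : σ.comp Algebra.TensorProduct.includeLeft = X.σ := Algebra.TensorProduct.productMap_left _ _
  have h2 : σ.comp Algebra.TensorProduct.includeRight = Y.σ := Algebra.TensorProduct.productMap_right _ _
  let Z := EtNbhd.of (X.S ⊗[A] Y.S) σ
  let f : X ⟶ Z := EtNbhd.homOf X (X.S ⊗[A] Y.S) σ Algebra.TensorProduct.includeLeft h1
  let g : Y ⟶ Z := EtNbhd.homOf Y (X.S ⊗[A] Y.S) σ Algebra.TensorProduct.includeRight h2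
  exact ⟨Z, f, g, trivial⟩
/-- Localizing an object at an element which the point sends to a unit. -/
theorem EtNbhd.exists_away (Y : EtNbhd A I) (d : Y.S) (hd : IsUnit (Y.σ d)) :
    ∃ (Z : EtNbhd A I) (h : Y ⟶ Z), IsUnit (h.1 d) ∧
      ∀ x y : Y.S, x * d = y * d → h.1 x = h.1 y := by
  let σ : Localization.Away d →ₐ[A] A ⧸ I := IsLocalization.Away.liftAlgHom (f := Y.σ) d hd
  have hσ' : ∀ x, σ (algebraMap Y.S (Localization.Away d) x) = Y.σ x := fun x =>
    IsLocalization.Away.lift_eq d hd x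
  have hσ : σ.comp (IsScalarTower.toAlgHom A Y.S (Localization.Away d)) = Y.σ :=
    AlgHom.ext fun x => by
      rw [AlgHom.comp_apply, IsScalarTower.toAlgHom_apply]
      exact hσ' x
  let Z := EtNbhd.of (Localization.Away d) σ
  let h : Y ⟶ Z := EtNbhd.homOf Y (Localization.Away d) σ
      (IsScalarTower.toAlgHom A Y.S (Localization.Away d)) hσ
  have h1 : ∀ z, h.1 z = EtNbhd.ofEquiv (Localization.Away d) σ
      (algebraMap Y.S (Localization.Away d) z) := fun z => rfl
  refine ⟨Z, h, ?_, ?_⟩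
  · rw [h1]
    exact (IsLocalization.Away.algebraMap_isUnit d).map _
  · intro x y hxy
    rw [h1, h1]
    congr 1
    rw [IsLocalization.eq_iff_exists (Submonoid.powers d)]
    refine ⟨⟨d, Submonoid.mem_powers d⟩, ?_⟩
    rw [mul_comm, hxy, mul_comm]

theorem EtNbhd.exists_cocone_maps (X Y : EtNbhd A I) (f g : X ⟶ Y) :
    ∃ (Z : EtNbhd A I) (h : Y ⟶ Z), f ≫ h = g ≫ h := by
  let t : X.S ⊗[A] X.S := Algebra.FormallyUnramified.elem A X.S
  let Φ : X.S ⊗[A] X.S →ₐ[A] Y.S := Algebra.TensorProduct.productMap f.1 g.1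
  let d : Y.S := Φ t
  have hΦ1 : ∀ s : X.S, Φ (1 ⊗ₜ[A] s) = g.1 s := fun s =>
    Algebra.TensorProduct.productMap_right_apply _ _ s
  have hΦ2 : ∀ s : X.S, Φ (s ⊗ₜ[A] 1) = f.1 s := fun s =>
    Algebra.TensorProduct.productMap_left_apply _ _ s
  have hd1 : ∀ s : X.S, g.1 s * d = f.1 s * d := by
    intro s
    have h1 := Algebra.FormallyUnramified.one_tmul_mul_elem (R := A) (S := X.S) s
    have h2 := congrArg Φ h1
    rw [map_mul, map_mul, hΦ1, hΦ2] at h2
    exact h2
  have hσΦ : ∀ z, Y.σ (Φ z) = X.σ (Algebra.TensorProduct.lmul' A z) := by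
    intro z
    induction z using TensorProduct.induction_on with
    | zero => simp
    | tmul a b =>
      rw [Algebra.TensorProduct.productMap_apply_tmul, map_mul, EtNbhd.Hom.σ_apply,
        EtNbhd.Hom.σ_apply, Algebra.TensorProduct.lmul'_apply_tmul, map_mul]
    | add x y hx hy => rw [map_add, map_add, hx, hy, map_add, map_add]
  have hd2 : Y.σ d = 1 := by
    rw [hσΦ, Algebra.FormallyUnramified.lmul_elem, map_one]
  obtain ⟨Z, h, -, hh⟩ := EtNbhd.exists_away Y d (by rw [hd2]; exact isUnit_one)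
  refine ⟨Z, h, ?_⟩
  apply EtNbhd.hom_ext
  apply AlgHom.ext
  intro s
  rw [EtNbhd.comp_val, EtNbhd.comp_val, AlgHom.comp_apply, AlgHom.comp_apply]
  exact (hh _ _ (hd1 s)).symm

noncomputable instance : IsFilteredOrEmpty (EtNbhd A I) where
  cocone_objs X Y := EtNbhd.exists_cocone_objs X Y
  cocone_maps X Y f g := EtNbhd.exists_cocone_maps X Y f g

instance : Nonempty (EtNbhd A I) := ⟨EtNbhd.of A (Ideal.Quotient.mkₐ A I)⟩

noncomputable instance : IsFiltered (EtNbhd A I) := {}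

end Groth.Agent.Lib.Helper9.Hens
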