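import Groth.Agent.Lib.Helper9.Hens.Residue
import Mathlib.RingTheory.Etale.StandardEtale
import Mathlib.RingTheory.Henselian
import Mathlib.Algebra.Polynomial.Lifts

/-!
# The henselization of a pair is henselian
-/

namespace Groth.Agent.Lib.Helper9.Hens

open CategoryTheory TensorProduct Polynomial

universe u

variable {A : Type u} [CommRing A] {I : Ideal A}

namespace PairHens

theorem exists_common (s : Finset (PairHens A I)) :
    ∃ N : EtNbhd A I, ∀ x ∈ s, x ∈ Set.range (ι N) := by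
  classical
  induction s using Finset.induction_on with
  | empty => exact ⟨EtNbhd.base A I, by simp⟩
  | insert a s _ ih =>
    obtain ⟨N₁, hN₁⟩ := ih
    obtain ⟨N₂, a', rfl⟩ := exists_rep a
    refine ⟨IsFiltered.max N₁ N₂, ?_⟩
    intro x hx
    rcases Finset.mem_insert.mp hx with rfl | hx
    · exact ⟨(IsFiltered.rightToMax N₁ N₂).1 a', ι_comp _ _⟩
    · obtain ⟨y, rfl⟩ := hN₁ x hx
      exact ⟨(IsFiltered.leftToMax N₁ N₂).1 y, ι_comp _ _⟩

/-- Adjoining a simple root at a finite stage. -/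
theorem exists_root_stage (N : EtNbhd A I) (q : N.S[X]) (hq : q.Monic) (b₀ : N.S)
    (h1 : N.σ (q.eval b₀) = 0) (h2 : IsUnit (N.σ (q.derivative.eval b₀))) :
    ∃ (Z : EtNbhd A I) (h : N ⟶ Z) (b : Z.S), (q.map h.1.toRingHom).eval b = 0 ∧
      Z.σ b = N.σ b₀ := by
  let P : StandardEtalePair N.S := ⟨q, hq, q.derivative, ⟨1, 0, 1, by simp⟩⟩
  letI : Algebra A P.Ring := ((algebraMap N.S P.Ring).comp (algebraMap A N.S)).toAlgebra
  haveI : IsScalarTower A N.S P.Ring := IsScalarTower.of_algebraMap_eq (fun _ => rfl)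
  haveI : Algebra.Etale A P.Ring := Algebra.Etale.comp A N.S P.Ring
  letI : Algebra N.S (A ⧸ I) := N.σ.toRingHom.toAlgebra
  haveI : IsScalarTower A N.S (A ⧸ I) :=
    IsScalarTower.of_algebraMap_eq (fun a => (N.σ.commutes a).symm)
  have hσalg : ∀ x : N.S, algebraMap N.S (A ⧸ I) x = N.σ x := fun _ => rfl
  have haev : ∀ p : N.S[X], aeval (N.σ b₀) p = N.σ (p.eval b₀) := by
    intro p
    rw [← hσalg b₀, Polynomial.aeval_algebraMap_apply, Polynomial.coe_aeval_eq_eval, hσalg]
  have hmap : P.HasMap (N.σ b₀) := by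
    constructor
    · change aeval (N.σ b₀) q = 0
      rw [haev, h1]
    · change IsUnit (aeval (N.σ b₀) q.derivative)
      rw [haev]
      exact h2
  let σ' : P.Ring →ₐ[A] A ⧸ I := (P.lift (N.σ b₀) hmap).restrictScalars A
  have hσ' : σ'.comp (IsScalarTower.toAlgHom A N.S P.Ring) = N.σ :=
    AlgHom.ext fun x => by
      rw [AlgHom.comp_apply, IsScalarTower.toAlgHom_apply]
      change (P.lift (N.σ b₀) hmap) (algebraMap N.S P.Ring x) = N.σ x
      rw [AlgHom.commutes]
      rfl
  let Z := EtNbhd.of P.Ring σ'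
  let h : N ⟶ Z := EtNbhd.homOf N P.Ring σ' (IsScalarTower.toAlgHom A N.S P.Ring) hσ'
  have hh : ∀ z, h.1 z = EtNbhd.ofEquiv P.Ring σ' (algebraMap N.S P.Ring z) := fun z => rfl
  refine ⟨Z, h, EtNbhd.ofEquiv P.Ring σ' P.X, ?_, ?_⟩
  · have h3 : h.1.toRingHom = ((EtNbhd.ofEquiv P.Ring σ').toAlgHom.toRingHom).comp
        (algebraMap N.S P.Ring) := RingHom.ext hh
    rw [h3, ← Polynomial.map_map, Polynomial.eval_map]
    have h4 : Polynomial.eval₂ (EtNbhd.ofEquiv P.Ring σ').toAlgHom.toRingHom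
        (EtNbhd.ofEquiv P.Ring σ' P.X) (q.map (algebraMap N.S P.Ring)) =
        EtNbhd.ofEquiv P.Ring σ' ((q.map (algebraMap N.S P.Ring)).eval P.X) :=
      (Polynomial.hom_eval₂ _ (RingHom.id _) (EtNbhd.ofEquiv P.Ring σ').toAlgHom.toRingHom
        P.X).symm
    rw [h4, Polynomial.eval_map, ← Polynomial.aeval_def]
    have h5 : aeval P.X q = 0 := P.hasMap_X.1
    rw [h5, map_zero]
  · rw [EtNbhd.of_σ_apply]
    exact P.lift_X _ hmap

theorem mem_map_iff_residue_eq_zero (x : PairHens A I) :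
    x ∈ I.map (algebraMap A (PairHens A I)) ↔ residue x = 0 := by
  rw [← ker_residue]
  rfl

instance henselianRing : HenselianRing (PairHens A I) (I.map (algebraMap A (PairHens A I))) where
  jac := map_le_jacobson
  is_henselian := by
    intro f hf a₀ h₁ h₂
    have h₂' : IsUnit (residue (f.derivative.eval a₀)) := by
      obtain ⟨v, hv⟩ := h₂.exists_right_inv
      obtain ⟨v, rfl⟩ := Ideal.Quotient.mk_surjective v
      rw [← map_mul, ← map_one (Ideal.Quotient.mk _), Ideal.Quotient.eq,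
        mem_map_iff_residue_eq_zero, map_sub, map_one, sub_eq_zero, map_mul] at hv
      exact IsUnit.of_mul_eq_one _ hv
    classical
    obtain ⟨N, hN⟩ := exists_common (insert a₀ f.coeffs)
    have hlift : f ∈ Polynomial.lifts (ι N) := by
      rw [Polynomial.lifts_iff_coeffs_subset_range]
      intro x hx
      exact hN x (Finset.mem_insert_of_mem hx)
    obtain ⟨q, hq, -, hqm⟩ := Polynomial.lifts_and_natDegree_eq_and_monic hlift hf
    obtain ⟨b₀, hb₀⟩ := hN a₀ (Finset.mem_insert_self _ _)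
    have e1 : f.eval a₀ = ι N (q.eval b₀) := by
      rw [← hq, ← hb₀, Polynomial.eval_map_apply]
    have e2 : f.derivative.eval a₀ = ι N (q.derivative.eval b₀) := by
      rw [← hq, ← hb₀, Polynomial.derivative_map, Polynomial.eval_map_apply]
    have hq1 : N.σ (q.eval b₀) = 0 := by
      rw [← residue_ι, ← e1]
      exact (mem_map_iff_residue_eq_zero _).mp h₁
    have hq2 : IsUnit (N.σ (q.derivative.eval b₀)) := by
      rw [← residue_ι, ← e2]
      exact h₂'
    obtain ⟨Z, h, b, hb1, hb2⟩ := exists_root_stage N q hqm b₀ hq1 hq2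
    refine ⟨ι Z b, ?_, ?_⟩
    · rw [Polynomial.IsRoot.def, ← hq]
      have h3 : ι N = (ι Z).comp h.1.toRingHom := RingHom.ext fun x => (ι_comp h x).symm
      rw [h3, ← Polynomial.map_map, Polynomial.eval_map_apply, hb1, map_zero]
    · rw [mem_map_iff_residue_eq_zero, map_sub, residue_ι, hb2, ← hb₀, residue_ι, sub_self]

end PairHens

end Groth.Agent.Lib.Helper9.Hens
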