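import Groth.Agent.Lib.Helper9.Hens.EtaleSectionFlat
import Groth.Agent.Lib.Helper9.Hens.Dimension
import Groth.Agent.Lib.Helper18.AdicQuot
import Groth.Agent.Lib.Helper54.Noetherian
import Groth.Agent.S14002
import Groth.Agent.S0542

/-!
# Noetherianity of (strict) henselizations

Let `R` be Noetherian local and `S` a local `R`-algebra which is flat, is covered by étale `R`-algebras
(finite families of elements come from a common étale algebra), and with `𝔪_R S = 𝔪_S`.  Then `S` is
Noetherian: the `𝔪_S`-adic completion `C` of `S` is Noetherian (S0542), flat over `R` (local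
flatness criterion S14002), hence flat over `S` (étale section trick), hence faithfully flat.
-/

namespace Groth.Agent.Lib.Helper9

open TensorProduct

universe u

section LemmaQ

variable {R : Type u} [CommRing R] (𝔞 : Ideal R) {M Q : Type u} [AddCommGroup M] [Module R M]
  [AddCommGroup Q] [Module R Q]

theorem one_tmul_eq_zero_of_mem_smul_top (x : M) (hx : x ∈ 𝔞 • (⊤ : Submodule R M)) :
    (1 : R ⧸ 𝔞) ⊗ₜ[R] x = 0 := by
  refine Submodule.smul_induction_on hx ?_ ?_
  · intro a ha m _
    rw [← TensorProduct.smul_tmul, Algebra.smul_def, mul_one,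
      Ideal.Quotient.algebraMap_eq, Ideal.Quotient.eq_zero_iff_mem.mpr ha, TensorProduct.zero_tmul]
  · intro x y hx hy
    rw [TensorProduct.tmul_add, hx, hy, add_zero]

theorem mem_smul_top_of_one_tmul_eq_zero (x : M) (hx : (1 : R ⧸ 𝔞) ⊗ₜ[R] x = 0) :
    x ∈ 𝔞 • (⊤ : Submodule R M) := by
  have h1 := congrArg (TensorProduct.quotTensorEquivQuotSMul M 𝔞) hx
  rw [map_zero] at h1
  have h2 : (TensorProduct.quotTensorEquivQuotSMul M 𝔞) ((1 : R ⧸ 𝔞) ⊗ₜ[R] x) =
      Submodule.Quotient.mk x := by
    have : (1 : R ⧸ 𝔞) = Ideal.Quotient.mk 𝔞 1 := (map_one _).symm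
    rw [this, TensorProduct.quotTensorEquivQuotSMul_mk_tmul, one_smul]
  rw [h2, Submodule.Quotient.mk_eq_zero] at h1
  exact h1

theorem exists_one_tmul_eq (z : (R ⧸ 𝔞) ⊗[R] M) : ∃ x : M, z = (1 : R ⧸ 𝔞) ⊗ₜ[R] x := by
  induction z using TensorProduct.induction_on with
  | zero => exact ⟨0, by simp⟩
  | tmul r x =>
    obtain ⟨a, rfl⟩ := Ideal.Quotient.mk_surjective r
    refine ⟨a • x, ?_⟩
    rw [← TensorProduct.smul_tmul, Algebra.smul_def, mul_one,
      Ideal.Quotient.algebraMap_eq]
  | add a b ha hb =>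
    obtain ⟨x, rfl⟩ := ha
    obtain ⟨y, rfl⟩ := hb
    exact ⟨x + y, by rw [TensorProduct.tmul_add]⟩

/-- A surjection with kernel `𝔞 M` becomes bijective after `- ⊗ R/𝔞`. -/
theorem baseChange_bijective_of_ker_eq (f : M →ₗ[R] Q) (hf : Function.Surjective f)
    (hker : ∀ x, f x = 0 → x ∈ 𝔞 • (⊤ : Submodule R M)) :
    Function.Bijective (f.baseChange (R ⧸ 𝔞)) := by
  constructor
  · rw [injective_iff_map_eq_zero]
    intro z hz
    obtain ⟨x, rfl⟩ := exists_one_tmul_eq 𝔞 z
    rw [LinearMap.baseChange_tmul] at hz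
    have h1 := mem_smul_top_of_one_tmul_eq_zero 𝔞 (f x) hz
    have h2 : (𝔞 • (⊤ : Submodule R Q)) = Submodule.map f (𝔞 • (⊤ : Submodule R M)) := by
      rw [Submodule.map_smul'', Submodule.map_top, LinearMap.range_eq_top.mpr hf]
    rw [h2] at h1
    obtain ⟨y, hy, hxy⟩ := h1
    have h3 : x - y ∈ 𝔞 • (⊤ : Submodule R M) := hker _ (by rw [map_sub, hxy, sub_self])
    have h4 : x ∈ 𝔞 • (⊤ : Submodule R M) := by
      have : x = (x - y) + y := by abel
      rw [this]
      exact Submodule.add_mem _ h3 hy
    exact one_tmul_eq_zero_of_mem_smul_top 𝔞 x h4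
  · exact LinearMap.lTensor_surjective _ hf

end LemmaQ

section AdicFlat

variable (R : Type u) [CommRing R] [IsNoetherianRing R] (S : Type u) [CommRing S] [Algebra R S]
  [Module.Flat R S] (𝔪 : Ideal R)

/-- The completion of a flat algebra `S` over a Noetherian ring `R` along `𝔪 S` is flat over `R`,
provided this completion is Noetherian. -/
theorem flat_adicCompletion_of_flat
    [IsNoetherianRing (AdicCompletion (𝔪.map (algebraMap R S)) S)] :
    Module.Flat R (AdicCompletion (𝔪.map (algebraMap R S)) S) := by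
  set I : Ideal S := 𝔪.map (algebraMap R S) with hI
  have hIfg : I.FG := Ideal.FG.map (IsNoetherian.noetherian 𝔪) _
  have htower : IsScalarTower R S (AdicCompletion I S) := IsScalarTower.of_algebraMap_eq (fun r => rfl)
  have hmapC : I.map (algebraMap S (AdicCompletion I S)) =
      𝔪.map (algebraMap R (AdicCompletion I S)) := by
    rw [hI, Ideal.map_map, ← IsScalarTower.algebraMap_eq]
  haveI : IsAdicComplete (𝔪.map (algebraMap R (AdicCompletion I S))) (AdicCompletion I S) := by
    rw [← hmapC]
    exact AdicCompletion.isAdicComplete_self I hIfg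
  refine (Groth.Agent.S14002.result R (AdicCompletion I S) 𝔪).mpr ?_
  intro n _
  -- the two surjections onto `S ⧸ I ^ n`
  let fC : AdicCompletion I S →ₗ[R] S ⧸ I ^ n :=
    ((AdicCompletion.evalₐ I n).restrictScalars R).toLinearMap
  let fS : S →ₗ[R] S ⧸ I ^ n := ((Ideal.Quotient.mkₐ R (I ^ n))).toLinearMap
  have hfC : Function.Surjective fC := AdicCompletion.surjective_evalₐ I n
  have hfS : Function.Surjective fS := Ideal.Quotient.mk_surjective
  have hkerC : ∀ x, fC x = 0 → x ∈ (𝔪 ^ n) • (⊤ : Submodule R (AdicCompletion I S)) := by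
    intro x hx
    have h1 : x ∈ RingHom.ker (AdicCompletion.evalₐ I n).toRingHom := hx
    rw [Groth.Agent.Lib.Helper18.ker_evalₐ_eq_map_pow I hIfg n, hmapC, ← Ideal.map_pow] at h1
    rw [Ideal.smul_top_eq_map]
    exact h1
  have hkerS : ∀ x, fS x = 0 → x ∈ (𝔪 ^ n) • (⊤ : Submodule R S) := by
    intro x hx
    have h1 : x ∈ I ^ n := Ideal.Quotient.eq_zero_iff_mem.mp hx
    rw [hI, ← Ideal.map_pow] at h1
    rw [Ideal.smul_top_eq_map]
    exact h1
  let eC := LinearEquiv.ofBijective (fC.baseChange (R ⧸ 𝔪 ^ n))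
    (baseChange_bijective_of_ker_eq (𝔪 ^ n) fC hfC hkerC)
  let eS := LinearEquiv.ofBijective (fS.baseChange (R ⧸ 𝔪 ^ n))
    (baseChange_bijective_of_ker_eq (𝔪 ^ n) fS hfS hkerS)
  exact Module.Flat.of_linearEquiv (eC.trans eS.symm)

end AdicFlat

section Covered

/-- Finite families of elements of `S` come from a common étale `R`-algebra. -/
def IsEtaleCoveredFin (R S : Type u) [CommRing R] [CommRing S] [Algebra R S] : Prop :=
  ∀ (l : ℕ) (x : Fin l → S), ∃ (E : Type u) (_ : CommRing E) (_ : Algebra R E)
    (_ : Algebra.Etale R E) (φ : E →ₐ[R] S), ∀ i, x i ∈ φ.range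

variable {R S : Type u} [CommRing R] [CommRing S] [Algebra R S]

theorem IsEtaleCoveredFin.of_algEquiv {S' : Type u} [CommRing S'] [Algebra R S'] (e : S' ≃ₐ[R] S)
    (h : IsEtaleCoveredFin R S') : IsEtaleCoveredFin R S := by
  intro l x
  obtain ⟨E, _, _, _, φ, hφ⟩ := h l (fun i => e.symm (x i))
  refine ⟨E, inferInstance, inferInstance, inferInstance, (e : S' →ₐ[R] S).comp φ, fun i => ?_⟩
  obtain ⟨y, hy⟩ := hφ i
  refine ⟨y, ?_⟩
  change e (φ y) = x i
  have hy' : φ y = e.symm (x i) := hy
  rw [hy', e.apply_symm_apply]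

/-- If `S` is covered by étale `R`-algebras, every `S`-algebra which is flat over `R` is flat over
`S`. -/
theorem IsEtaleCoveredFin.flat (hS : IsEtaleCoveredFin R S) (C : Type u) [CommRing C]
    [Algebra R C] [Algebra S C] [IsScalarTower R S C] [Module.Flat R C] : Module.Flat S C := by
  apply Module.Flat.of_forall_isTrivialRelation
  intro l f x hfx
  obtain ⟨E, _, _, _, φ, hφ⟩ := hS l f
  choose e he' using hφ
  have he : ∀ i, φ (e i) = f i := he'
  letI : Algebra E C := ((algebraMap S C).comp φ.toRingHom).toAlgebra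
  have htower : IsScalarTower R E C := IsScalarTower.of_algebraMap_eq (fun r => by
    change algebraMap R C r = algebraMap S C (φ (algebraMap R E r))
    rw [φ.commutes, ← IsScalarTower.algebraMap_apply])
  haveI : Module.Flat E C := flat_of_etale_of_flat R E C
  have hsmul : ∀ (a : E) (c : C), a • c = φ a • c := by
    intro a c
    rw [Algebra.smul_def, Algebra.smul_def]
    rfl
  have hrel : ∑ i, e i • x i = 0 := by
    rw [← hfx]
    apply Finset.sum_congr rfl
    intro i _
    rw [hsmul, he i]
  obtain ⟨k, a, y, hxy, ha⟩ := Module.Flat.isTrivialRelation_of_sum_smul_eq_zero (R := E) (M := C) hrel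
  refine ⟨k, fun i j => φ (a i j), y, fun i => ?_, fun j => ?_⟩
  · rw [hxy i]
    apply Finset.sum_congr rfl
    intro j _
    rw [hsmul]
  · have := congrArg φ (ha j)
    rw [map_sum, map_zero] at this
    rw [← this]
    apply Finset.sum_congr rfl
    intro i _
    rw [map_mul, he i]

end Covered

section Main

open IsLocalRing

variable (R : Type u) [CommRing R] [IsLocalRing R] [IsNoetherianRing R]
  (S : Type u) [CommRing S] [IsLocalRing S] [Algebra R S]

/-- Key theorem: a flat local `R`-algebra covered by étale algebras with `𝔪_R S = 𝔪_S` is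
Noetherian when `R` is. -/
theorem isNoetherianRing_of_isEtaleCoveredFin [Module.Flat R S] (hS : IsEtaleCoveredFin R S)
    (hm : (maximalIdeal R).map (algebraMap R S) = maximalIdeal S) : IsNoetherianRing S := by
  set I : Ideal S := (maximalIdeal R).map (algebraMap R S) with hI
  have hIfg : I.FG := Ideal.FG.map (IsNoetherian.noetherian (maximalIdeal R)) _
  haveI : IsNoetherianRing (S ⧸ I) := by
    rw [hm]
    exact inferInstanceAs (IsNoetherianRing (ResidueField S))
  haveI hCN : IsNoetherianRing (AdicCompletion I S) := Groth.Agent.S0542.result S I hIfg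
  haveI hCflat : Module.Flat R (AdicCompletion I S) := flat_adicCompletion_of_flat R S (maximalIdeal R)
  have htower : IsScalarTower R S (AdicCompletion I S) := IsScalarTower.of_algebraMap_eq (fun r => rfl)
  haveI : Module.Flat S (AdicCompletion I S) := hS.flat (AdicCompletion I S)
  -- local ring structure of the completion
  have hfgm : (maximalIdeal S).FG := hm ▸ hIfg
  have hCloc : IsLocalRing (AdicCompletion (maximalIdeal S) S) := AdicCompletion.isLocalRing_of_fg hfgm
  have hlochom : IsLocalHom (algebraMap S (AdicCompletion (maximalIdeal S) S)) :=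
    AdicCompletion.algebraMap_isLocalHom_of_fg hfgm
  have key : ∀ (J : Ideal S) (hJ : J = maximalIdeal S), Module.Flat S (AdicCompletion J S) →
      IsNoetherianRing (AdicCompletion J S) → IsNoetherianRing S := by
    intro J hJ hfl hN
    subst hJ
    haveI := hfl
    haveI := hN
    haveI := hCloc
    haveI := hlochom
    haveI : Module.FaithfullyFlat S (AdicCompletion (maximalIdeal S) S) :=
      Module.FaithfullyFlat.of_flat_of_isLocalHom
    exact Groth.Agent.Lib.Helper54.isNoetherianRing_of_faithfullyFlat S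
      (AdicCompletion (maximalIdeal S) S)
  exact key I hm inferInstance hCN

end Main

end Groth.Agent.Lib.Helper9
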