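import Groth.Agent.Lib.Helper9.Hens.PairQuotient

/-!
# Henselization of a pair and base change (helper9)

* `isPairHenselization_of_ringEquiv_base`: transport of `IsPairHenselization` along an isomorphism of
  the base rings.
* `isPairHenselization_of_tensor`: if `B` is a henselization of `(E, J)` and `S'` is an `E`-algebra,
  a henselization of `(B ⊗[E] S', J(B ⊗[E] S'))` is a henselization of `(S', JS')`.
-/

set_option autoImplicit false

namespace Groth.Agent.Lib.Helper9.Hens

open TensorProduct

universe u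

/-- Transport of `IsPairHenselization` along an isomorphism of base rings. -/
theorem isPairHenselization_of_ringEquiv_base {S₁ S C : Type u} [CommRing S₁] [CommRing S]
    [CommRing C] [Algebra S C] [Algebra S₁ C] (e : S₁ ≃+* S)
    (hcompat : algebraMap S₁ C = (algebraMap S C).comp (e : S₁ →+* S))
    {J₁ : Ideal S₁} {J : Ideal S} (hJ : J₁.map (e : S₁ →+* S) = J)
    (h : Hens2.IsPairHenselization S J C) : Hens2.IsPairHenselization S₁ J₁ C := by
  have hmap : J₁.map (algebraMap S₁ C) = J.map (algebraMap S C) := by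
    rw [hcompat, ← Ideal.map_map, hJ]
  refine ⟨hmap ▸ h.1, ?_⟩
  intro D _ L g hD hL
  have hes : ((e : S₁ →+* S).comp (e.symm : S →+* S₁)) = RingHom.id S := by
    ext x; exact e.apply_symm_apply x
  have hse : ((e.symm : S →+* S₁).comp (e : S₁ →+* S)) = RingHom.id S₁ := by
    ext x; exact e.symm_apply_apply x
  have hL' : J.map (g.comp (e.symm : S →+* S₁)) ≤ L := by
    rw [← hJ, Ideal.map_map, RingHom.comp_assoc, hse, RingHom.comp_id]
    exact hL
  obtain ⟨δ, hδ, hδuniq⟩ := h.2 D L (g.comp (e.symm : S →+* S₁)) hD hL'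
  refine ⟨δ, ?_, ?_⟩
  · show δ.comp (algebraMap S₁ C) = g
    rw [hcompat, ← RingHom.comp_assoc, hδ, RingHom.comp_assoc, hse, RingHom.comp_id]
  · intro δ' hδ'
    have hδ' : δ'.comp (algebraMap S₁ C) = g := hδ'
    apply hδuniq
    show δ'.comp (algebraMap S C) = g.comp (e.symm : S →+* S₁)
    rw [← hδ', hcompat, RingHom.comp_assoc, RingHom.comp_assoc, hes, RingHom.comp_id]

section Tensor

variable {E : Type u} [CommRing E] {J : Ideal E} {B : Type u} [CommRing B] [Algebra E B]
  (hB : Hens2.IsPairHenselization E J B) {S' : Type u} [CommRing S'] [Algebra E S']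
  {C : Type u} [CommRing C] [Algebra (B ⊗[E] S') C] [Algebra S' C]

include hB in
/-- If `B` is a henselization of `(E, J)` and `S'` an `E`-algebra, a henselization of
`(B ⊗[E] S', J(B ⊗[E] S'))` is a henselization of `(S', JS')`. -/
theorem isPairHenselization_of_tensor
    (hcompat : algebraMap S' C = (algebraMap (B ⊗[E] S') C).comp
      (Algebra.TensorProduct.includeRight : S' →ₐ[E] B ⊗[E] S').toRingHom)
    (hC : Hens2.IsPairHenselization (B ⊗[E] S') (J.map (algebraMap E (B ⊗[E] S'))) C) :
    Hens2.IsPairHenselization S' (J.map (algebraMap E S')) C := by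
  have hER : (Algebra.TensorProduct.includeRight : S' →ₐ[E] B ⊗[E] S').toRingHom.comp
      (algebraMap E S') = algebraMap E (B ⊗[E] S') := by
    ext x
    exact (Algebra.TensorProduct.includeRight : S' →ₐ[E] B ⊗[E] S').commutes x
  have hmap : (J.map (algebraMap E S')).map (algebraMap S' C) =
      (J.map (algebraMap E (B ⊗[E] S'))).map (algebraMap (B ⊗[E] S') C) := by
    rw [hcompat, Ideal.map_map, Ideal.map_map, RingHom.comp_assoc, hER]
  refine ⟨hmap ▸ hC.1, ?_⟩
  intro D _ L g hD hL
  letI : Algebra E D := (g.comp (algebraMap E S')).toAlgebra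
  have hJD : J.map (algebraMap E D) ≤ L := by
    show J.map (g.comp (algebraMap E S')) ≤ L
    rw [← Ideal.map_map]; exact hL
  obtain ⟨β, hβ, hβuniq⟩ := hB.2 D L (algebraMap E D) hD hJD
  let βa : B →ₐ[E] D := { β with commutes' := fun x => DFunLike.congr_fun hβ x }
  let ga : S' →ₐ[E] D := { g with commutes' := fun x => rfl }
  let γ : B ⊗[E] S' →ₐ[E] D := Algebra.TensorProduct.lift βa ga (fun _ _ => Commute.all _ _)
  have hγR : ∀ x : S', γ (1 ⊗ₜ x) = g x := by
    intro x
    simp [γ, ga]
  have hγL : ∀ b : B, γ (b ⊗ₜ 1) = β b := by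
    intro b
    simp [γ, βa]
  have hγJ : (J.map (algebraMap E (B ⊗[E] S'))).map (γ : B ⊗[E] S' →+* D) ≤ L := by
    rw [Ideal.map_map]
    have : (γ : B ⊗[E] S' →+* D).comp (algebraMap E (B ⊗[E] S')) = algebraMap E D := by
      ext x; exact γ.commutes x
    rw [this]
    exact hJD
  obtain ⟨δ, hδ, hδuniq⟩ := hC.2 D L (γ : B ⊗[E] S' →+* D) hD hγJ
  refine ⟨δ, ?_, ?_⟩
  · show δ.comp (algebraMap S' C) = g
    rw [hcompat, ← RingHom.comp_assoc, hδ]
    ext x
    exact hγR x
  · intro δ' hδ'
    have hδ' : δ'.comp (algebraMap S' C) = g := hδ'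
    apply hδuniq
    show δ'.comp (algebraMap (B ⊗[E] S') C) = (γ : B ⊗[E] S' →+* D)
    -- the two maps `B ⊗ S' → D` agree on both factors
    have hR : ∀ x : S', δ' (algebraMap (B ⊗[E] S') C (1 ⊗ₜ x)) = g x := by
      intro x
      have := DFunLike.congr_fun hδ' x
      rw [hcompat] at this
      exact this
    have hL' : ∀ b : B, δ' (algebraMap (B ⊗[E] S') C (b ⊗ₜ 1)) = β b := by
      have h1 : ((δ'.comp (algebraMap (B ⊗[E] S') C)).comp
          (Algebra.TensorProduct.includeLeftRingHom : B →+* B ⊗[E] S')) = β := by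
        apply hβuniq
        ext x
        change δ' (algebraMap (B ⊗[E] S') C (algebraMap E B x ⊗ₜ 1)) = g (algebraMap E S' x)
        rw [← hR, Algebra.TensorProduct.tmul_one_eq_one_tmul]
      intro b
      exact DFunLike.congr_fun h1 b
    apply RingHom.ext
    intro t
    induction t using TensorProduct.induction_on with
    | zero => simp
    | tmul b x =>
      have hbx : b ⊗ₜ[E] x = (b ⊗ₜ 1) * (1 ⊗ₜ x) := by
        rw [Algebra.TensorProduct.tmul_mul_tmul, mul_one, one_mul]
      change δ' (algebraMap (B ⊗[E] S') C (b ⊗ₜ x)) = γ (b ⊗ₜ x)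
      rw [hbx, map_mul, map_mul, hL', hR, map_mul, hγL, hγR]
    | add t₁ t₂ h₁ h₂ =>
      change δ' (algebraMap (B ⊗[E] S') C (t₁ + t₂)) = γ (t₁ + t₂)
      rw [map_add, map_add, map_add]
      congr 1

end Tensor

section TensorEquiv

variable {E : Type u} [CommRing E] {J : Ideal E} {B : Type u} [CommRing B] [Algebra E B]
  (hB : Hens2.IsPairHenselization E J B) {S : Type u} [CommRing S] [Algebra B S] [Algebra E S]
  [IsScalarTower E B S] {S' : Type u} [CommRing S'] [Algebra E S']
  {C : Type u} [CommRing C] [Algebra S C] [Algebra S' C]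

include hB in
/-- Variant of `isPairHenselization_of_tensor` for an algebra `S` isomorphic to `B ⊗[E] S'`. -/
theorem isPairHenselization_of_tensor_equiv (e : B ⊗[E] S' ≃ₐ[B] S)
    (hC : Hens2.IsPairHenselization S (J.map (algebraMap E S)) C)
    (hcompat : ∀ x : S', algebraMap S' C x = algebraMap S C (e (1 ⊗ₜ x))) :
    Hens2.IsPairHenselization S' (J.map (algebraMap E S')) C := by
  letI algTC : Algebra (B ⊗[E] S') C :=
    ((algebraMap S C).comp (e : B ⊗[E] S' →+* S)).toAlgebra
  have heE : ∀ x : E, e (algebraMap E (B ⊗[E] S') x) = algebraMap E S x := by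
    intro x
    rw [Algebra.TensorProduct.algebraMap_apply]
    have h1 : (algebraMap E B x) ⊗ₜ[E] (1 : S') = algebraMap B (B ⊗[E] S') (algebraMap E B x) := by
      rw [Algebra.TensorProduct.algebraMap_apply]
      rfl
    rw [h1, e.commutes, ← IsScalarTower.algebraMap_apply]
  have hCT : Hens2.IsPairHenselization (B ⊗[E] S') (J.map (algebraMap E (B ⊗[E] S'))) C := by
    refine isPairHenselization_of_ringEquiv_base e.toRingEquiv rfl ?_ hC
    rw [Ideal.map_map]
    congr 1
    ext x
    exact heE x
  refine isPairHenselization_of_tensor hB ?_ hCT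
  ext x
  exact hcompat x

end TensorEquiv

end Groth.Agent.Lib.Helper9.Hens
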