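import Groth.Agent.S1998
import Groth.Agent.Lib.Helper3.HenselianMap
import Groth.Agent.Lib.Helper9.Hens.PairIntegral
import Mathlib.Algebra.Colimit.DirectLimit

/-!
# Henselization of pairs and filtered colimits (helper9)

* `henselianRing_directLimit`: a direct limit (`DirectLimit`, quotient of the disjoint union) of
  henselian pairs is a henselian pair.
* `isPairHenselization_directLimit`: henselization of pairs commutes with direct limits.
-/

set_option autoImplicit false

namespace Groth.Agent.Lib.Helper9.Hens

universe u

section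

variable {ι : Type u} [Preorder ι] [IsDirectedOrder ι] [Nonempty ι]
  (G : ι → Type u) [∀ i, CommRing (G i)] (f : ∀ i j : ι, i ≤ j → (G i →+* G j))
  [DirectedSystem G (fun i j h => f i j h)] (I : ∀ i, Ideal (G i))

/-- A direct limit of henselian pairs is a henselian pair. -/
theorem henselianRing_directLimit
    (hI : ∀ (i j : ι) (h : i ≤ j), (I i).map (f i j h) ≤ I j)
    (hh : ∀ i, HenselianRing (G i) (I i)) :
    HenselianRing (DirectLimit G f) (⨆ i, (I i).map (DirectLimit.Ring.of G f i)) := by
  have h0 := Groth.Agent.S1998.result G f I hI hh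
  let e := Ring.DirectLimit.ringEquiv G f
  haveI := h0
  have h1 := Groth.Agent.Lib.Helper3.henselianRing_of_ringEquiv e
    (⨆ i, (I i).map (Ring.DirectLimit.of G (fun i j h => f i j h) i))
  have h2 : (⨆ i, (I i).map (Ring.DirectLimit.of G (fun i j h => f i j h) i)).map
      (e : Ring.DirectLimit G (fun i j h => f i j h) →+* DirectLimit G f) =
      ⨆ i, (I i).map (DirectLimit.Ring.of G f i) := by
    rw [Ideal.map_iSup]
    congr 1
    funext i
    rw [Ideal.map_map]
    congr 1
    ext x
    show (Ring.DirectLimit.ringEquiv G f) (Ring.DirectLimit.of G (fun i j h => f i j h) i x) =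
      DirectLimit.Ring.of G f i x
    rw [Ring.DirectLimit.ringEquiv_of G f]
    rfl
  rw [h2] at h1
  exact h1

end

section

variable {ι : Type u} [Preorder ι] [IsDirectedOrder ι] [Nonempty ι]
  (G : ι → Type u) [∀ i, CommRing (G i)] (f : ∀ i j : ι, i ≤ j → (G i →+* G j))
  [DirectedSystem G (fun i j h => f i j h)] (I : ∀ i, Ideal (G i))
  (hI : ∀ (i j : ι) (h : i ≤ j), (I i).map (f i j h) ≤ I j)
  (B : ι → Type u) [∀ i, CommRing (B i)] [∀ i, Algebra (G i) (B i)]
  (hB : ∀ i, Hens2.IsPairHenselization (G i) (I i) (B i))
  (g : ∀ i j : ι, i ≤ j → (B i →+* B j)) [DirectedSystem B (fun i j h => g i j h)]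
  (hg : ∀ (i j : ι) (h : i ≤ j), (g i j h).comp (algebraMap (G i) (B i)) =
    (algebraMap (G j) (B j)).comp (f i j h))
  [Algebra (DirectLimit G f) (DirectLimit B g)]
  (halg : ∀ (i : ι) (x : G i), algebraMap (DirectLimit G f) (DirectLimit B g)
    (DirectLimit.Ring.of G f i x) = DirectLimit.Ring.of B g i (algebraMap (G i) (B i) x))

include hI hB hg halg in
/-- Henselization of pairs commutes with direct limits. -/
theorem isPairHenselization_directLimit :
    Hens2.IsPairHenselization (DirectLimit G f) (⨆ i, (I i).map (DirectLimit.Ring.of G f i))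
      (DirectLimit B g) := by
  have halg' : ∀ i, (algebraMap (DirectLimit G f) (DirectLimit B g)).comp
      (DirectLimit.Ring.of G f i) = (DirectLimit.Ring.of B g i).comp (algebraMap (G i) (B i)) := by
    intro i
    ext x
    exact halg i x
  refine ⟨?_, ?_⟩
  · -- henselian
    have hIB : ∀ (i j : ι) (h : i ≤ j), ((I i).map (algebraMap (G i) (B i))).map (g i j h) ≤
        (I j).map (algebraMap (G j) (B j)) := by
      intro i j h
      rw [Ideal.map_map, hg, ← Ideal.map_map]
      exact Ideal.map_mono (hI i j h)
    have h1 := henselianRing_directLimit B g (fun i => (I i).map (algebraMap (G i) (B i))) hIB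
      (fun i => (hB i).1)
    have h2 : (⨆ i, (I i).map (DirectLimit.Ring.of G f i)).map
        (algebraMap (DirectLimit G f) (DirectLimit B g)) =
        ⨆ i, ((I i).map (algebraMap (G i) (B i))).map (DirectLimit.Ring.of B g i) := by
      rw [Ideal.map_iSup]
      congr 1
      funext i
      rw [Ideal.map_map, Ideal.map_map, halg']
    rw [h2]
    exact h1
  · -- universal property
    intro C _ L φ hC hL
    have hLi : ∀ i, (I i).map (φ.comp (DirectLimit.Ring.of G f i)) ≤ L := by
      intro i
      rw [← Ideal.map_map]
      exact le_trans (Ideal.map_mono (le_iSup (fun i => (I i).map (DirectLimit.Ring.of G f i)) i)) hL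
    choose γ hγ hγuniq using fun i =>
      (hB i).2 C L (φ.comp (DirectLimit.Ring.of G f i)) hC (hLi i)
    have hcompat : ∀ i j (h : i ≤ j) (x : B i), γ j (g i j h x) = γ i x := by
      intro i j h x
      have h1 : (γ j).comp (g i j h) = γ i := by
        apply hγuniq i
        show ((γ j).comp (g i j h)).comp (algebraMap (G i) (B i)) =
          φ.comp (DirectLimit.Ring.of G f i)
        rw [RingHom.comp_assoc, hg, ← RingHom.comp_assoc, hγ j]
        ext y
        show φ (DirectLimit.Ring.of G f j (f i j h y)) = φ (DirectLimit.Ring.of G f i y)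
        rw [DirectLimit.Ring.of_f]
      exact DFunLike.congr_fun h1 x
    refine ⟨DirectLimit.Ring.lift B g C γ hcompat, ?_, ?_⟩
    · show (DirectLimit.Ring.lift B g C γ hcompat).comp
        (algebraMap (DirectLimit G f) (DirectLimit B g)) = φ
      apply DirectLimit.Ring.hom_ext
      intro i
      rw [RingHom.comp_assoc, halg', ← RingHom.comp_assoc, DirectLimit.Ring.lift_comp_of]
      exact hγ i
    · intro γ' hγ'
      have hγ'' : γ'.comp (algebraMap (DirectLimit G f) (DirectLimit B g)) = φ := hγ'
      apply DirectLimit.Ring.hom_ext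
      intro i
      rw [DirectLimit.Ring.lift_comp_of]
      apply hγuniq i
      show (γ'.comp (DirectLimit.Ring.of B g i)).comp (algebraMap (G i) (B i)) =
        φ.comp (DirectLimit.Ring.of G f i)
      rw [RingHom.comp_assoc, ← halg', ← RingHom.comp_assoc, hγ'']

end

end Groth.Agent.Lib.Helper9.Hens
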