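import Groth.Agent.Lib.Helper9.Hens.PairUniversal
import Groth.Agent.Lib.Helper9.Henselian
import Groth.Agent.Lib.Helper3.HenselianMap
import Groth.Agent.Lib.Helper3.IdemBij

/-!
# Henselization of a pair and the Chinese remainder theorem (helper9)

A finite product of henselian pairs is a henselian pair, and for pairwise comaximal ideals
`I i` the product of the henselizations of the `(A, I i)` is a henselization of `(A, ⨅ i, I i)`.
-/

set_option autoImplicit false

namespace Groth.Agent.Lib.Helper9.Hens

open Polynomial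

universe u v w

/-- A product of henselian pairs is a henselian pair. -/
theorem henselianRing_pi {ι : Type v} (B : ι → Type w) [∀ i, CommRing (B i)]
    (J : ∀ i, Ideal (B i)) (h : ∀ i, HenselianRing (B i) (J i)) :
    HenselianRing (∀ i, B i) (⨅ i, Ideal.comap (Pi.evalRingHom B i) (J i)) := by
  classical
  set Jd : Ideal (∀ j, B j) := ⨅ j, Ideal.comap (Pi.evalRingHom B j) (J j) with hJd
  have hmemJ : ∀ x : ∀ j, B j, x ∈ Jd ↔ ∀ j, x j ∈ J j := by
    intro x
    rw [hJd, Ideal.mem_iInf]
    exact Iff.rfl
  have hjac : Jd ≤ Ideal.jacobson ⊥ := by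
    intro x hx
    rw [Ideal.mem_jacobson_bot]
    intro y
    rw [Pi.isUnit_iff]
    intro j
    exact Ideal.mem_jacobson_bot.mp ((h j).jac ((hmemJ x).mp hx j)) (y j)
  refine ⟨hjac, ?_⟩
  intro f hf a₀ h₁ h₂
  have hloc := isLocalHom_of_le_jacobson_bot Jd hjac
  have hu : IsUnit (f.derivative.eval a₀) := IsUnit.of_map (Ideal.Quotient.mk Jd) _ h₂
  have hev : ∀ (p : (∀ j, B j)[X]) (j : ι),
      (p.map (Pi.evalRingHom B j)).eval (a₀ j) = (p.eval a₀) j := by
    intro p j
    rw [eval_map]
    exact (eval₂_at_apply (Pi.evalRingHom B j) a₀)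
  have key : ∀ j, ∃ a : B j, (f.map (Pi.evalRingHom B j)).IsRoot a ∧ a - a₀ j ∈ J j := by
    intro j
    apply (h j).is_henselian _ (hf.map _) (a₀ j)
    · rw [hev]; exact (hmemJ _).mp h₁ j
    · rw [derivative_map, hev]
      exact ((Pi.isUnit_iff.mp hu) j).map _
  choose a ha ha' using key
  refine ⟨a, ?_, (hmemJ _).mpr ha'⟩
  funext j
  have h3 : (f.map (Pi.evalRingHom B j)).eval (a j) = (f.eval a) j := by
    rw [eval_map]
    exact (eval₂_at_apply (Pi.evalRingHom B j) a)
  rw [← h3]
  exact ha j

section CRT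

variable {A : Type u} [CommRing A] {ι : Type} [Fintype ι]

/-- Chinese remainder elements for pairwise coprime ideals. -/
theorem exists_crt_elements [DecidableEq ι] (I : ι → Ideal A) (hI : Pairwise (Function.onFun IsCoprime I)) :
    ∃ a : ι → A, (∀ i, 1 - a i ∈ I i) ∧ ∀ i j, j ≠ i → a i ∈ I j := by
  have key : ∀ i, ∃ r : A, ∀ j, r - (if j = i then (1 : A) else 0) ∈ I j :=
    fun i => Ideal.exists_forall_sub_mem_ideal hI _
  choose a ha using key
  refine ⟨a, fun i => ?_, fun i j hji => ?_⟩
  · have := ha i i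
    rw [if_pos rfl] at this
    have h2 := (I i).neg_mem this
    rwa [neg_sub] at h2
  · have := ha i j
    rwa [if_neg hji, sub_zero] at this

/-- For pairwise coprime ideals `I i` of `A` (finitely many), the product of henselizations of
the pairs `(A, I i)` is a henselization of the pair `(A, ⨅ i, I i)`. -/
theorem isPairHenselization_pi (I : ι → Ideal A) (hI : Pairwise (Function.onFun IsCoprime I))
    (Bi : ι → Type u) [∀ i, CommRing (Bi i)] [∀ i, Algebra A (Bi i)]
    (hBi : ∀ i, Hens2.IsPairHenselization A (I i) (Bi i)) :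
    Hens2.IsPairHenselization A (⨅ i, I i) (∀ i, Bi i) := by
  classical
  obtain ⟨a, ha1, ha0⟩ := exists_crt_elements I hI
  have hKle : ∀ i, (⨅ i, I i) ≤ I i := fun i => iInf_le _ i
  have hmemK : ∀ x : A, (∀ j, x ∈ I j) → x ∈ ⨅ i, I i := fun x hx => (Ideal.mem_iInf).mpr hx
  have F1 : ∀ i, a i * (1 - a i) ∈ ⨅ i, I i := by
    intro i
    apply hmemK
    intro j
    by_cases hji : j = i
    · subst hji; exact Ideal.mul_mem_left _ _ (ha1 j)
    · exact Ideal.mul_mem_right _ _ (ha0 i j hji)
  have F2 : ∀ i j, i ≠ j → a i * a j ∈ ⨅ i, I i := by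
    intro i j hij
    apply hmemK
    intro k
    by_cases hki : k = i
    · subst hki; exact Ideal.mul_mem_left _ _ (ha0 j k hij)
    · exact Ideal.mul_mem_right _ _ (ha0 i k hki)
  have F3 : 1 - ∑ i, a i ∈ ⨅ i, I i := by
    apply hmemK
    intro j
    rw [← Finset.add_sum_erase Finset.univ a (Finset.mem_univ j), ← sub_sub]
    refine (I j).sub_mem (ha1 j) (Ideal.sum_mem _ fun i hi => ?_)
    exact ha0 i j (Finset.ne_of_mem_erase hi).symm
  have F4 : ∀ i x, x ∈ I i → x * a i ∈ ⨅ i, I i := by
    intro i x hx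
    apply hmemK
    intro j
    by_cases hji : j = i
    · subst hji; exact Ideal.mul_mem_right _ _ hx
    · exact Ideal.mul_mem_left _ _ (ha0 i j hji)
  -- Step 1: the product is henselian along the extension of the intersection
  have hens : HenselianRing (∀ i, Bi i) ((⨅ i, I i).map (algebraMap A (∀ i, Bi i))) := by
    refine henselianRing_of_le (henselianRing_pi Bi (fun i => (I i).map (algebraMap A (Bi i)))
      (fun i => (hBi i).1)) ?_
    rw [Ideal.map_le_iff_le_comap]
    intro x hx
    rw [Ideal.mem_comap, Ideal.mem_iInf]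
    intro i
    exact Ideal.mem_map_of_mem _ (hKle i hx)
  refine ⟨hens, ?_⟩
  intro C _ J f hC hKJ
  have hjac : J ≤ Ideal.jacobson ⊥ := hC.jac
  have hfK : ∀ x, x ∈ ⨅ i, I i → f x ∈ J := fun x hx => hKJ (Ideal.mem_map_of_mem f hx)
  have hzero : ∀ x : C, IsIdempotentElem x → x ∈ J → x = 0 := fun x hx hxJ =>
    Groth.Agent.Lib.Helper3.eq_zero_of_isIdempotentElem_of_mem_jacobson hx (hjac hxJ)
  -- lift the idempotents
  have hbij := Groth.Agent.Lib.Helper3.bijOn_idempotents_of_henselianRing (A := C) J (B := C) J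
    (by rw [Algebra.algebraMap_self, Ideal.map_id])
  have hidem : ∀ i, ∃ e : C, IsIdempotentElem e ∧ e - f (a i) ∈ J := by
    intro i
    have h0 : IsIdempotentElem (Ideal.Quotient.mk J (f (a i))) := by
      have h1 : f (a i) * (1 - f (a i)) ∈ J := by
        rw [← map_one f, ← map_sub, ← map_mul]
        exact hfK _ (F1 i)
      unfold IsIdempotentElem
      rw [← map_mul, Ideal.Quotient.eq]
      have h2 := J.neg_mem h1
      convert h2 using 1; ring
    obtain ⟨e, he, hee⟩ := hbij.surjOn h0
    exact ⟨e, he, Ideal.Quotient.eq.mp hee⟩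
  choose e he hea using hidem
  have horth : ∀ i j, i ≠ j → e i * e j = 0 := by
    intro i j hij
    apply hzero _ ((he i).mul (he j))
    have h1 : e i * e j = (e i - f (a i)) * e j + f (a i) * (e j - f (a j)) + f (a i * a j) := by
      rw [map_mul]; ring
    rw [h1]
    exact J.add_mem (J.add_mem (Ideal.mul_mem_right _ _ (hea i)) (Ideal.mul_mem_left _ _ (hea j)))
      (hfK _ (F2 i j hij))
  have hOI : OrthogonalIdempotents e := ⟨he, fun i j hij => horth i j hij⟩
  have hsum : ∑ i, e i = 1 := by
    have hid : IsIdempotentElem (1 - ∑ i, e i) := (hOI.isIdempotentElem_sum (s := Finset.univ)).one_sub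
    have hmem : 1 - ∑ i, e i ∈ J := by
      have h1 : 1 - ∑ i, e i = f (1 - ∑ i, a i) - ∑ i, (e i - f (a i)) := by
        rw [map_sub, map_one, map_sum, Finset.sum_sub_distrib]; ring
      rw [h1]
      exact J.sub_mem (hfK _ F3) (Ideal.sum_mem _ fun i _ => hea i)
    have := hzero _ hid hmem
    exact (sub_eq_zero.mp this).symm
  have hCOI : CompleteOrthogonalIdempotents e := ⟨hOI, hsum⟩
  -- the factors of `C`
  let π : ∀ i, C →+* C ⧸ Ideal.span {1 - e i} := fun i => Ideal.Quotient.mk _
  have hπe : ∀ i, π i (e i) = 1 := by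
    intro i
    have : π i (1 - e i) = 0 := Ideal.Quotient.eq_zero_iff_mem.mpr (Ideal.subset_span rfl)
    rw [map_sub, map_one, sub_eq_zero] at this
    exact this.symm
  have hCi : ∀ i, HenselianRing (C ⧸ Ideal.span {1 - e i}) (J.map (π i)) := fun i =>
    Groth.Agent.Lib.Helper3.henselianRing_of_surjective (π i) Ideal.Quotient.mk_surjective J
  have hIi : ∀ i, (I i).map ((π i).comp f) ≤ J.map (π i) := by
    intro i
    rw [Ideal.map_le_iff_le_comap]
    intro x hx
    rw [Ideal.mem_comap, RingHom.comp_apply]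
    have h1 : π i (f x) = π i (f x * e i) := by rw [map_mul, hπe, mul_one]
    rw [h1]
    apply Ideal.mem_map_of_mem
    have h2 : f x * e i = f (x * a i) + f x * (e i - f (a i)) := by rw [map_mul]; ring
    rw [h2]
    exact J.add_mem (hfK _ (F4 i x hx)) (Ideal.mul_mem_left _ _ (hea i))
  have hgex : ∀ i, ∃! g : Bi i →+* C ⧸ Ideal.span {1 - e i},
      g.comp (algebraMap A (Bi i)) = (π i).comp f :=
    fun i => (hBi i).2 _ (J.map (π i)) ((π i).comp f) (hCi i) (hIi i)
  let g : ∀ i, Bi i →+* C ⧸ Ideal.span {1 - e i} := fun i => (hgex i).choose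
  have hg : ∀ i, (g i).comp (algebraMap A (Bi i)) = (π i).comp f := fun i => (hgex i).choose_spec.1
  have hguniq : ∀ i (g' : Bi i →+* C ⧸ Ideal.span {1 - e i}),
      g'.comp (algebraMap A (Bi i)) = (π i).comp f → g' = g i := fun i => (hgex i).choose_spec.2
  let E : C ≃+* ∀ i, C ⧸ Ideal.span {1 - e i} := RingEquiv.ofBijective _ hCOI.bijective_pi
  have hE : ∀ c i, E c i = π i c := fun c i => rfl
  let G : (∀ i, Bi i) →+* C :=
    (E.symm : (∀ i, C ⧸ Ideal.span {1 - e i}) →+* C).comp
      (RingHom.pi fun i => (g i).comp (Pi.evalRingHom Bi i))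
  have hEG : ∀ x i, π i (G x) = g i (x i) := by
    intro x i
    rw [← hE]
    show E (E.symm _) i = _
    rw [E.apply_symm_apply]; rfl
  refine ⟨G, ?_, ?_⟩
  · apply RingHom.ext; intro r
    apply E.injective
    funext i
    rw [hE, hE, RingHom.comp_apply, hEG]
    exact DFunLike.congr_fun (hg i) r
  · intro G' hG'
    have hG'alg : ∀ r, G' (algebraMap A (∀ i, Bi i) r) = f r := fun r => DFunLike.congr_fun hG' r
    have hu1 : ∀ i, IsUnit (algebraMap A (Bi i) (a i)) := by
      intro i
      have hmem : algebraMap A (Bi i) (1 - a i) ∈ Ideal.jacobson (⊥ : Ideal (Bi i)) :=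
        (hBi i).1.jac (Ideal.mem_map_of_mem _ (ha1 i))
      have := Ideal.mem_jacobson_bot.mp hmem (-1)
      convert this using 1
      rw [map_sub, map_one]; ring
    have hu2 : ∀ i j, j ≠ i → IsUnit (algebraMap A (Bi j) (1 - a i)) := by
      intro i j hji
      have hmem : algebraMap A (Bi j) (a i) ∈ Ideal.jacobson (⊥ : Ideal (Bi j)) :=
        (hBi j).1.jac (Ideal.mem_map_of_mem _ (ha0 i j hji))
      have := Ideal.mem_jacobson_bot.mp hmem (-1)
      convert this using 1
      rw [map_sub, map_one]; ring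
    have hδ : ∀ i, G' (Pi.single i 1) - f (a i) ∈ J := by
      intro i
      let p : ∀ j, Bi j := fun j =>
        if h : j = i then (((hu1 j).unit⁻¹ : (Bi j)ˣ) : Bi j)
        else -((((hu2 i j h).unit⁻¹ : (Bi j)ˣ)) : Bi j)
      have hp : (Pi.single i 1 : ∀ j, Bi j) - algebraMap A (∀ j, Bi j) (a i) =
          algebraMap A (∀ j, Bi j) (a i * (1 - a i)) * p := by
        funext j
        by_cases h : j = i
        · have hpj : p j = (((hu1 j).unit⁻¹ : (Bi j)ˣ) : Bi j) := dif_pos h
          subst h
          rw [Pi.sub_apply, Pi.mul_apply, Pi.single_eq_same, Pi.algebraMap_apply,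
            Pi.algebraMap_apply, hpj, map_mul, mul_comm (algebraMap A (Bi j) (a j)), mul_assoc,
            IsUnit.mul_val_inv, mul_one, map_sub, map_one]
        · have hpj : p j = -((((hu2 i j h).unit⁻¹ : (Bi j)ˣ)) : Bi j) := dif_neg h
          rw [Pi.sub_apply, Pi.mul_apply, Pi.single_eq_of_ne h, Pi.algebraMap_apply,
            Pi.algebraMap_apply, hpj, map_mul, mul_assoc, mul_neg, IsUnit.mul_val_inv, mul_neg,
            mul_one, zero_sub]
      rw [← hG'alg, ← map_sub, hp, map_mul, hG'alg]
      exact Ideal.mul_mem_right _ _ (hfK _ (F1 i))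
    have hδe : ∀ i, G' (Pi.single i 1) = e i := by
      intro i
      have hid : IsIdempotentElem (G' (Pi.single i 1)) := by
        have : IsIdempotentElem (Pi.single i 1 : ∀ j, Bi j) := by
          unfold IsIdempotentElem
          rw [← Pi.single_mul, mul_one]
        exact this.map G'
      apply Groth.Agent.Lib.Helper3.eq_of_isIdempotentElem_of_sub_mem_jacobson hid (he i)
      apply hjac
      have : G' (Pi.single i 1) - e i = (G' (Pi.single i 1) - f (a i)) - (e i - f (a i)) := by
        ring
      rw [this]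
      exact J.sub_mem (hδ i) (hea i)
    have hsingle : ∀ i (x : ∀ j, Bi j), (Pi.single i (x i) : ∀ j, Bi j) = Pi.single i 1 * x := by
      intro i x
      funext j
      by_cases hj : j = i
      · subst hj; simp
      · simp [Pi.single_eq_of_ne hj]
    have key : ∀ i (b : Bi i), π i (G' (Pi.single i b)) = g i b := by
      intro i
      let h : Bi i →+* C ⧸ Ideal.span {1 - e i} :=
        { toFun := fun b => π i (G' (Pi.single i b))
          map_one' := by
            show π i (G' (Pi.single i 1)) = 1
            rw [hδe, hπe]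
          map_mul' := fun x y => by
            show π i (G' (Pi.single i (x * y))) = _
            rw [Pi.single_mul, map_mul, map_mul]
          map_zero' := by
            show π i (G' (Pi.single i 0)) = 0
            rw [Pi.single_zero, map_zero, map_zero]
          map_add' := fun x y => by
            show π i (G' (Pi.single i (x + y))) = _
            rw [Pi.single_add, map_add, map_add] }
      have hh : h.comp (algebraMap A (Bi i)) = (π i).comp f := by
        apply RingHom.ext; intro r
        show π i (G' (Pi.single i (algebraMap A (Bi i) r))) = π i (f r)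
        have := hsingle i (algebraMap A (∀ j, Bi j) r)
        rw [Pi.algebraMap_apply] at this
        rw [this, map_mul, map_mul, hδe, hπe, one_mul, hG'alg]
      have := hguniq i h hh
      intro b
      rw [← this]; rfl
    apply RingHom.ext; intro x
    apply E.injective
    funext i
    rw [hE, hE, hEG, ← key, hsingle, map_mul, map_mul, hδe, hπe, one_mul]

end CRT

end Groth.Agent.Lib.Helper9.Hens
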