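import Groth.Agent.Lib.Helper9.Hens.NoetherianHens
import Mathlib.RingTheory.RegularLocalRing.Defs
import Mathlib.RingTheory.AdicCompletion.LocalRing

/-!
# Regularity of the henselization
-/

namespace Groth.Agent.Lib.Helper9

open IsLocalRing

universe u

section

variable (R S : Type u) [CommRing R] [IsLocalRing R] [CommRing S] [IsLocalRing S]
    [Algebra R S] [IsLocalHom (algebraMap R S)] [Hensel.IsHenselization R S]

theorem spanFinrank_maximalIdeal_eq_of_isHenselization [IsNoetherianRing R] :
    (maximalIdeal S).spanFinrank = (maximalIdeal R).spanFinrank := by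
  haveI : IsNoetherianRing S := (isNoetherianRing_iff_of_isHenselization R S).mp inferInstance
  haveI := Hens.flat_of_isHenselization R S
  have fg : (maximalIdeal R).FG := Ideal.fg_of_isNoetherianRing (maximalIdeal R)
  have fg' : (maximalIdeal S).FG := Ideal.fg_of_isNoetherianRing (maximalIdeal S)
  have hmap := Hens.map_maximalIdeal_of_isHenselization R S
  have comapeq := IsLocalRing.maximalIdeal_comap (algebraMap R S)
  let f := Ideal.mapCotangent (maximalIdeal R) (maximalIdeal S) (Algebra.ofId R S)
    (le_of_eq comapeq.symm)
  have hsurj := Hens.exists_sub_mem_map_maximalIdeal_of_isHenselization R S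
  have hinj := Hens.mem_maximalIdeal_of_algebraMap_mem R S
  have inj : Function.Injective f := by
    rw [← LinearMap.ker_eq_bot, LinearMap.ker_eq_bot']
    intro m hm
    rcases Ideal.toCotangent_surjective _ m with ⟨m', rfl⟩
    simp only [Ideal.mapCotangent_toCotangent, Algebra.ofId_apply, Ideal.toCotangent_eq_zero,
      f] at hm
    rw [Ideal.toCotangent_eq_zero]
    rw [← hmap, ← Ideal.map_pow] at hm
    exact mem_pow_of_algebraMap_mem_map_pow (maximalIdeal R) hsurj hinj 2 m'.1 hm
  have surj : Function.Surjective f := by
    intro m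
    rcases Ideal.toCotangent_surjective _ m with ⟨m', rfl⟩
    obtain ⟨r, hr⟩ := exists_sub_mem_map_pow (maximalIdeal R) hsurj 2 m'.1
    rw [Ideal.map_pow, hmap] at hr
    have hrm : algebraMap R S r ∈ maximalIdeal S := by
      have : algebraMap R S r = m'.1 - (m'.1 - algebraMap R S r) := by ring
      rw [this]
      exact Ideal.sub_mem _ m'.2 (Ideal.pow_le_self two_ne_zero hr)
    have hr' : r ∈ maximalIdeal R := by
      rw [← comapeq]
      exact hrm
    refine ⟨(maximalIdeal R).toCotangent ⟨r, hr'⟩, ?_⟩
    simp only [Ideal.mapCotangent_toCotangent, Algebra.ofId_apply, f]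
    rw [Ideal.toCotangent_eq]
    have : algebraMap R S r - m'.1 = -(m'.1 - algebraMap R S r) := by ring
    change algebraMap R S r - m'.1 ∈ _
    rw [this]
    exact neg_mem hr
  have rkeq := rank_eq_of_equiv_equiv _
    (LinearEquiv.ofBijective f ⟨inj, surj⟩).toAddEquiv
    (Hens.residueField_map_bijective_of_isHenselization R S) (fun r m ↦ by
      rcases IsLocalRing.residue_surjective r with ⟨s, rfl⟩
      change f (residue R s • m) = ResidueField.map (algebraMap R S) (residue R s) • f m
      rw [ResidueField.map_residue]
      have h1 : (residue R s) • m = s • m := rfl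
      have h2 : (residue S (algebraMap R S s)) • f m = (algebraMap R S s) • f m := rfl
      rw [h1, h2, algebraMap_smul]
      exact map_smul f s m)
  rw [IsLocalRing.spanFinrank_maximalIdeal_eq_finrank_cotangentSpace_of_fg fg,
    IsLocalRing.spanFinrank_maximalIdeal_eq_finrank_cotangentSpace_of_fg fg']
  simp [Module.finrank, CotangentSpace, rkeq]

theorem isRegularLocalRing_iff_of_isHenselization [IsNoetherianRing R] :
    IsRegularLocalRing R ↔ IsRegularLocalRing S := by
  haveI : IsNoetherianRing S := (isNoetherianRing_iff_of_isHenselization R S).mp inferInstance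
  rw [isRegularLocalRing_iff, isRegularLocalRing_iff,
    spanFinrank_maximalIdeal_eq_of_isHenselization R S, ringKrullDim_eq_of_isHenselization R S]

end

end Groth.Agent.Lib.Helper9
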