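import Groth.Agent.Lib.Helper9.Hens.Colimit
import Groth.Agent.Lib.Helper9.EtaleLift

/-!
# The henselization of a pair: algebra structure, residue map, units
-/

namespace Groth.Agent.Lib.Helper9.Hens

open CategoryTheory TensorProduct

universe u

variable {A : Type u} [CommRing A] {I : Ideal A}

variable (A I) in
/-- The base object `(A, A → A ⧸ I)`. -/
noncomputable def EtNbhd.base : EtNbhd A I := EtNbhd.of A (Ideal.Quotient.mkₐ A I)

namespace PairHens

noncomputable instance : Algebra A (PairHens A I) :=
  ((ι (EtNbhd.base A I)).comp (algebraMap A (EtNbhd.base A I).S)).toAlgebra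

theorem algebraMap_def (a : A) : algebraMap A (PairHens A I) a =
    ι (EtNbhd.base A I) (algebraMap A (EtNbhd.base A I).S a) := rfl

theorem ι_algebraMap (N : EtNbhd A I) (a : A) :
    ι N (algebraMap A N.S a) = algebraMap A (PairHens A I) a := by
  rw [algebraMap_def, ← ι_comp (IsFiltered.leftToMax N (EtNbhd.base A I)),
    ← ι_comp (IsFiltered.rightToMax N (EtNbhd.base A I)), AlgHom.commutes, AlgHom.commutes]

/-- The structure maps as algebra maps. -/
noncomputable def ιₐ (N : EtNbhd A I) : N.S →ₐ[A] PairHens A I :=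
  { ι N with commutes' := ι_algebraMap N }

@[simp] theorem ιₐ_apply (N : EtNbhd A I) (x : N.S) : ιₐ N x = ι N x := rfl

/-- The residue map `PairHens A I → A ⧸ I`. -/
noncomputable def residue : PairHens A I →ₐ[A] A ⧸ I :=
  { desc (fun N => N.σ.toRingHom) (fun _ _ f x => f.σ_apply x) with
    commutes' := fun a => by
      change desc (fun N => N.σ.toRingHom) (fun _ _ f x => f.σ_apply x)
        (algebraMap A (PairHens A I) a) = _
      rw [← ι_algebraMap (EtNbhd.base A I) a, desc_ι]
      exact AlgHom.commutes _ a }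

theorem residue_ι (N : EtNbhd A I) (x : N.S) : residue (ι N x) = N.σ x :=
  desc_ι (fun N => N.σ.toRingHom) (fun _ _ f x => f.σ_apply x) N x

theorem residue_surjective : Function.Surjective (residue : PairHens A I →ₐ[A] A ⧸ I) := by
  intro y
  obtain ⟨a, rfl⟩ := Ideal.Quotient.mk_surjective y
  exact ⟨algebraMap A _ a, AlgHom.commutes _ a⟩

theorem isUnit_ι_of_isUnit_σ (N : EtNbhd A I) (d : N.S) (hd : IsUnit (N.σ d)) :
    IsUnit (ι N d) := by
  obtain ⟨Z, h, hu, -⟩ := EtNbhd.exists_away N d hd
  rw [← ι_comp h]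
  exact hu.map _

theorem isUnit_of_isUnit_residue (x : PairHens A I) (hx : IsUnit (residue x)) : IsUnit x := by
  obtain ⟨N, y, rfl⟩ := exists_rep x
  rw [residue_ι] at hx
  exact isUnit_ι_of_isUnit_σ N y hx

theorem isUnit_iff_isUnit_residue (x : PairHens A I) : IsUnit x ↔ IsUnit (residue x) :=
  ⟨fun h => h.map _, isUnit_of_isUnit_residue x⟩

theorem ker_residue :
    RingHom.ker (residue : PairHens A I →ₐ[A] A ⧸ I).toRingHom =
      I.map (algebraMap A (PairHens A I)) := by
  apply le_antisymm
  · intro x hx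
    obtain ⟨N, y, rfl⟩ := exists_rep x
    have hy : N.σ y = 0 := by
      rw [← residue_ι]
      exact hx
    obtain ⟨d, hd1, hd2⟩ := exists_mul_mem_map_of_etale I N.σ
    have h1 : ι N (y * d) ∈ I.map (algebraMap A (PairHens A I)) := by
      have h2 := Ideal.mem_map_of_mem (ι N) (hd2 y hy)
      rw [Ideal.map_map] at h2
      have h3 : (ι N).comp (algebraMap A N.S) = algebraMap A (PairHens A I) :=
        RingHom.ext (ι_algebraMap N)
      rw [h3] at h2
      exact h2
    rw [map_mul] at h1
    have hu : IsUnit (ι N d) := isUnit_ι_of_isUnit_σ N d (by rw [hd1]; exact isUnit_one)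
    exact (Ideal.mul_unit_mem_iff_mem _ hu).mp h1
  · rw [Ideal.map_le_iff_le_comap]
    intro a ha
    rw [Ideal.mem_comap, RingHom.mem_ker]
    change residue (algebraMap A (PairHens A I) a) = 0
    rw [AlgHom.commutes]
    exact Ideal.Quotient.eq_zero_iff_mem.mpr ha

theorem map_le_jacobson : I.map (algebraMap A (PairHens A I)) ≤ Ideal.jacobson ⊥ := by
  intro x hx
  rw [← ker_residue] at hx
  rw [Ideal.mem_jacobson_bot]
  intro y
  apply isUnit_of_isUnit_residue
  have h0 : residue x = 0 := hx
  rw [map_add, map_mul, h0, zero_mul, zero_add, map_one]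
  exact isUnit_one

end PairHens

end Groth.Agent.Lib.Helper9.Hens
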