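import Groth.Agent.Lib.Helper9.Hens.Henselian

/-!
# The universal property of the henselization of a pair
-/

namespace Groth.Agent.Lib.Helper9.Hens

open CategoryTheory TensorProduct Polynomial

universe u

variable {A : Type u} [CommRing A] {I : Ideal A}

namespace PairHens

theorem algHom_ext {C : Type*} [CommRing C] [Algebra A C] (g₁ g₂ : PairHens A I →ₐ[A] C)
    (h : ∀ N : EtNbhd A I, g₁.comp (ιₐ N) = g₂.comp (ιₐ N)) : g₁ = g₂ := by
  apply AlgHom.coe_ringHom_injective
  apply hom_ext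
  intro N x
  exact DFunLike.congr_fun (h N) x

/-- Algebra homomorphisms out of the colimit. -/
noncomputable def descₐ {C : Type u} [CommRing C] [Algebra A C] (g : ∀ N : EtNbhd A I, N.S →ₐ[A] C)
    (hg : ∀ (N₁ N₂ : EtNbhd A I) (f : N₁ ⟶ N₂), (g N₂).comp f.1 = g N₁) :
    PairHens A I →ₐ[A] C :=
  { desc (fun N => (g N).toRingHom) (fun N₁ N₂ f x => DFunLike.congr_fun (hg N₁ N₂ f) x) with
    commutes' := fun a => by
      change desc (fun N => (g N).toRingHom) _ (algebraMap A (PairHens A I) a) = _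
      rw [← ι_algebraMap (EtNbhd.base A I) a, desc_ι]
      exact AlgHom.commutes _ a }

theorem descₐ_ι {C : Type u} [CommRing C] [Algebra A C] (g : ∀ N : EtNbhd A I, N.S →ₐ[A] C)
    (hg : ∀ (N₁ N₂ : EtNbhd A I) (f : N₁ ⟶ N₂), (g N₂).comp f.1 = g N₁) (N : EtNbhd A I)
    (x : N.S) : descₐ g hg (ι N x) = g N x :=
  desc_ι (fun N => (g N).toRingHom) (fun N₁ N₂ f x => DFunLike.congr_fun (hg N₁ N₂ f) x) N x

/-- Any algebra map from the henselization to `C` is compatible with the residue maps, when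
`I C ⊆ J`. -/
theorem mk_comp_eq {C : Type u} [CommRing C] [Algebra A C] (J : Ideal C)
    (hIJ : I.map (algebraMap A C) ≤ J) (θ : A ⧸ I →ₐ[A] C ⧸ J) (g : PairHens A I →ₐ[A] C)
    (x : PairHens A I) : Ideal.Quotient.mk J (g x) = θ (residue x) := by
  obtain ⟨a, ha⟩ := Ideal.Quotient.mk_surjective (residue x)
  have h1 : x - algebraMap A (PairHens A I) a ∈ I.map (algebraMap A (PairHens A I)) := by
    rw [mem_map_iff_residue_eq_zero, map_sub, AlgHom.commutes, ← ha]
    exact sub_self _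
  have h2 : g (x - algebraMap A (PairHens A I) a) ∈ J := by
    apply hIJ
    have h3 := Ideal.mem_map_of_mem g.toRingHom h1
    rw [Ideal.map_map] at h3
    have h4 : g.toRingHom.comp (algebraMap A (PairHens A I)) = algebraMap A C :=
      RingHom.ext fun a => g.commutes a
    rw [h4] at h3
    exact h3
  rw [map_sub, AlgHom.commutes] at h2
  rw [← ha, Ideal.Quotient.eq.mpr h2]
  have h5 : θ (Ideal.Quotient.mk I a) = algebraMap A (C ⧸ J) a := θ.commutes a
  rw [h5]
  rfl

/-- The universal property of the henselization of a pair, with respect to targets `(C, J)` having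
the unique lifting property for étale `A`-algebras. -/
theorem existsUnique_algHom {C : Type u} [CommRing C] [Algebra A C] (J : Ideal C)
    (hIJ : I.map (algebraMap A C) ≤ J)
    (hlift : ∀ (N : EtNbhd A I) (τ : N.S →ₐ[A] C ⧸ J),
      ∃! g : N.S →ₐ[A] C, (Ideal.Quotient.mkₐ A J).comp g = τ) :
    ∃! g : PairHens A I →ₐ[A] C, True := by
  let θ : A ⧸ I →ₐ[A] C ⧸ J := Ideal.Quotient.liftₐ I
    ((Ideal.Quotient.mkₐ A J).comp (Algebra.ofId A C)) (fun a ha => by
      rw [AlgHom.comp_apply]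
      exact Ideal.Quotient.eq_zero_iff_mem.mpr (hIJ (Ideal.mem_map_of_mem _ ha)))
  let g : ∀ N : EtNbhd A I, N.S →ₐ[A] C := fun N => (hlift N (θ.comp N.σ)).choose
  have hg1 : ∀ N, (Ideal.Quotient.mkₐ A J).comp (g N) = θ.comp N.σ :=
    fun N => (hlift N (θ.comp N.σ)).choose_spec.1
  have hg2 : ∀ N (g' : N.S →ₐ[A] C), (Ideal.Quotient.mkₐ A J).comp g' = θ.comp N.σ → g' = g N :=
    fun N g' h => (hlift N (θ.comp N.σ)).choose_spec.2 g' h
  have hcompat : ∀ (N₁ N₂ : EtNbhd A I) (f : N₁ ⟶ N₂), (g N₂).comp f.1 = g N₁ := by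
    intro N₁ N₂ f
    apply hg2
    rw [← AlgHom.comp_assoc, hg1, AlgHom.comp_assoc, f.2]
  refine ⟨descₐ g hcompat, trivial, ?_⟩
  intro g' _
  apply algHom_ext
  intro N
  have h1 : g'.comp (ιₐ N) = g N := by
    apply hg2
    apply AlgHom.ext
    intro x
    rw [AlgHom.comp_apply, AlgHom.comp_apply, AlgHom.comp_apply, Ideal.Quotient.mkₐ_eq_mk,
      mk_comp_eq J hIJ θ g', ιₐ_apply, residue_ι]
  rw [h1]
  apply AlgHom.ext
  intro x
  rw [AlgHom.comp_apply, ιₐ_apply, descₐ_ι]

end PairHens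

end Groth.Agent.Lib.Helper9.Hens
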